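import Cfsg.Agent.Core.Hall
import Cfsg.Agent.Core.Fitting
import Cfsg.Agent.Core.Frattini
import Cfsg.Agent.Core.PCore
import Cfsg.Agent.Core.KegelWielandt
import Cfsg.Prelude.Def_Amalgam

/-!
Groups in which every subgroup of order prime to `p` is abelian of exponent dividing `p - 1`:
subgroups, quotients, and the structure of the solvable ones.
-/

set_option autoImplicit false

namespace Cfsg.Agent.AbelPPrime

open Subgroup
open scoped Pointwise

universe u

/-- All `p'`-subgroups are abelian of exponent dividing `p - 1`. -/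
def HP (p : ℕ) (G : Type u) [Group G] : Prop :=
  ∀ H : Subgroup G, (Nat.card ↥H).Coprime p → IsMulCommutative ↥H ∧ ∀ x ∈ H, x ^ (p - 1) = 1

variable {p : ℕ} {G : Type u} [Group G]

theorem HP.comm (h : HP p G) {H : Subgroup G} (hH : (Nat.card H).Coprime p) {a b : G}
    (ha : a ∈ H) (hb : b ∈ H) : a * b = b * a :=
  congrArg Subtype.val ((h H hH).1.is_comm.comm ⟨a, ha⟩ ⟨b, hb⟩)

theorem HP.sub (h : HP p G) (K : Subgroup G) : HP p K := by
  intro H hH
  have hc : (Nat.card (H.map K.subtype)).Coprime p := by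
    rwa [Nat.card_congr (H.equivMapOfInjective _ K.subtype_injective).symm.toEquiv]
  refine ⟨⟨⟨fun a b => Subtype.ext (Subtype.ext ?_)⟩⟩, fun x hx => Subtype.ext ?_⟩
  · exact h.comm hc (mem_map_of_mem _ a.2) (mem_map_of_mem _ b.2)
  · simpa using (h _ hc).2 _ (mem_map_of_mem _ hx)

variable [hp : Fact p.Prime] [Finite G]

theorem coprime_iff {n : ℕ} : n.Coprime p ↔ ¬ p ∣ n := by
  rw [Nat.coprime_comm]; exact hp.out.coprime_iff_not_dvd

theorem inf_eq_bot {B T : Subgroup G} (hB : (Nat.card B).Coprime p) (hT : IsPGroup p T) :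
    B ⊓ T = ⊥ := by
  apply inf_eq_bot_of_coprime
  obtain ⟨k, hk⟩ := IsPGroup.iff_card.1 hT
  rw [hk]
  exact hB.pow_right k

theorem eq_one_of_mem {B T : Subgroup G} (hB : (Nat.card B).Coprime p) (hT : IsPGroup p T) {g : G}
    (h1 : g ∈ B) (h2 : g ∈ T) : g = 1 := by
  have h : g ∈ B ⊓ T := ⟨h1, h2⟩
  rwa [inf_eq_bot hB hT, mem_bot] at h

/-- A supplement argument: the hypothesis passes to quotients. -/
theorem HP.quot (h : HP p G) (N : Subgroup G) [N.Normal] : HP p (G ⧸ N) := by
  intro H hH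
  obtain ⟨K, hK, hmin⟩ := WellFounded.has_min wellFounded_lt
    {K : Subgroup G | K.map (QuotientGroup.mk' N) = H}
    ⟨H.comap (QuotientGroup.mk' N), map_comap_eq_self_of_surjective (QuotientGroup.mk'_surjective N) H⟩
  simp only [Set.mem_setOf_eq] at hK hmin
  set N₀ : Subgroup K := N.subgroupOf K with hN₀
  have hfr : N₀ ≤ frattini K := Core.le_frattini fun M hM => by
    by_contra hle
    have hsup : M ⊔ N₀ = ⊤ := hM.2 _ (left_lt_sup.2 hle)
    have hlt : M.map K.subtype < K := by
      refine lt_of_le_of_ne (map_subtype_le _) fun he => hM.1 ?_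
      apply map_injective K.subtype_injective
      rw [he, ← MonoidHom.range_eq_map, range_subtype]
    refine hmin _ ?_ hlt
    rw [← hK]
    refine le_antisymm (map_mono (map_subtype_le _)) ?_
    rintro _ ⟨k, hk, rfl⟩
    have hk' : (⟨k, hk⟩ : K) ∈ M ⊔ N₀ := by rw [hsup]; trivial
    obtain ⟨m, hm, n, hn, he⟩ := mem_sup_of_normal_right.1 hk'
    refine ⟨m, ⟨m, hm, rfl⟩, ?_⟩
    have he' : (m : G) * (n : G) = k := congrArg Subtype.val he
    rw [← he', map_mul, QuotientGroup.mk'_apply, QuotientGroup.mk'_apply,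
      (QuotientGroup.eq_one_iff (n : G)).2 hn, mul_one]
  have hindex : N₀.index = Nat.card H := by
    let f : K →* G ⧸ N := (QuotientGroup.mk' N).comp K.subtype
    have hker : f.ker = N₀ := by
      rw [hN₀, ← MonoidHom.comap_ker, QuotientGroup.ker_mk']; rfl
    rw [← hker, Subgroup.index_ker, MonoidHom.range_comp, range_subtype, hK]
  obtain ⟨S⟩ := (inferInstance : Nonempty (Sylow p N₀))
  have hSn : (((S : Subgroup N₀).map N₀.subtype)).Normal := by
    rw [← normalizer_eq_top_iff]
    exact Core.eq_top_of_sup_frattini hfr (S.normalizer_sup_eq_top)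
  set S₁ := (S : Subgroup N₀).map N₀.subtype
  have hScop : (Nat.card S₁).Coprime S₁.index := by
    obtain ⟨k, hk⟩ := IsPGroup.iff_card.1 (S.2.map N₀.subtype)
    have hri : S₁.relIndex N₀ = (S : Subgroup N₀).index := by
      rw [relIndex]; congr 1
      exact comap_map_eq_self_of_injective N₀.subtype_injective _
    have : ¬ p ∣ S₁.index := by
      rw [← relIndex_mul_index (map_subtype_le _ : S₁ ≤ N₀), hri, hindex]
      intro hd
      rcases hp.out.dvd_mul.1 hd with h1 | h1
      · exact S.not_dvd_index h1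
      · exact coprime_iff.1 hH h1
    rw [hk]
    exact (hp.out.coprime_iff_not_dvd.2 this).pow_left k
  obtain ⟨C, hC⟩ := exists_right_complement'_of_coprime hScop
  have hCtop : C = ⊤ := by
    refine Core.eq_top_of_sup_frattini hfr (top_le_iff.1 ?_)
    rw [← hC.sup_eq_top, sup_comm]
    exact sup_le_sup_left (map_subtype_le _) _
  have hK' : (Nat.card K).Coprime p := by
    subst hCtop
    rw [isComplement'_top_right] at hC
    rw [coprime_iff, ← Subgroup.index_bot (G := K)]
    intro hd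
    have : (Nat.card S₁).Coprime S₁.index := hScop
    obtain ⟨k, hk⟩ := IsPGroup.iff_card.1 (S.2.map N₀.subtype)
    have hri : S₁.relIndex N₀ = (S : Subgroup N₀).index := by
      rw [relIndex]; congr 1
      exact comap_map_eq_self_of_injective N₀.subtype_injective _
    rw [← hC, ← relIndex_mul_index (map_subtype_le _ : S₁ ≤ N₀), hri, hindex] at hd
    rcases hp.out.dvd_mul.1 hd with h1 | h1
    · exact S.not_dvd_index h1
    · exact coprime_iff.1 hH h1
  obtain ⟨hc, he⟩ := h K hK'
  refine ⟨⟨⟨?_⟩⟩, ?_⟩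
  · rintro ⟨u, hu⟩ ⟨v, hv⟩
    obtain ⟨a, ha, rfl⟩ : u ∈ K.map (QuotientGroup.mk' N) := by rw [hK]; exact hu
    obtain ⟨b, hb, rfl⟩ : v ∈ K.map (QuotientGroup.mk' N) := by rw [hK]; exact hv
    apply Subtype.ext
    show QuotientGroup.mk' N a * QuotientGroup.mk' N b = QuotientGroup.mk' N b * QuotientGroup.mk' N a
    rw [← map_mul, ← map_mul, h.comm hK' ha hb]
  · intro x hx
    rw [← hK] at hx
    obtain ⟨a, ha, rfl⟩ := hx
    rw [← map_pow, he a ha, map_one]

/-! ### Hall subgroups -/

/-- `B` is a Hall `p'`-subgroup of `K`. -/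
def HallIn (p : ℕ) {G : Type u} [Group G] (B K : Subgroup G) : Prop :=
  B ≤ K ∧ (Nat.card B).Coprime p ∧ ∃ k : ℕ, B.relIndex K = p ^ k

theorem HallIn.top_of_sub {B K : Subgroup G} (hB : HallIn p B K) :
    HallIn p (B.subgroupOf K) (⊤ : Subgroup K) := by
  refine ⟨le_top, ?_, ?_⟩
  · rw [Nat.card_congr (subgroupOfEquivOfLe hB.1).toEquiv]; exact hB.2.1
  · rw [relIndex_top_right]; exact hB.2.2

omit [Finite G] in
theorem dvd_of_coprime_of_dvd_mul_pow {a b k : ℕ} (ha : a.Coprime p) (h : a ∣ b * p ^ k) : a ∣ b :=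
  (ha.pow_right k).dvd_of_dvd_mul_right h

theorem HallIn.dvd {B K U : Subgroup G} (hB : HallIn p B K) (hU : U ≤ K)
    (hUc : (Nat.card U).Coprime p) : Nat.card U ∣ Nat.card B := by
  obtain ⟨k, hk⟩ := hB.2.2
  refine dvd_of_coprime_of_dvd_mul_pow (k := k) hUc ?_
  rw [← hk, ← relIndex_bot_left B, relIndex_mul_relIndex _ _ _ bot_le hB.1, relIndex_bot_left]
  exact card_dvd_of_le hU

theorem HallIn.eq_of_le {B K U : Subgroup G} (hB : HallIn p B K) (hBU : B ≤ U) (hU : U ≤ K)
    (hUc : (Nat.card U).Coprime p) : B = U :=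
  eq_of_le_of_card_ge hBU (Nat.le_of_dvd Nat.card_pos (hB.dvd hU hUc))

theorem coprime_sup {U V : Subgroup G} (hU : (Nat.card U).Coprime p) (hV : (Nat.card V).Coprime p)
    (h : U ≤ normalizer (V : Set G)) : (Nat.card (U ⊔ V : Subgroup G)).Coprime p := by
  rw [sup_comm]
  exact (hV.mul_left hU).coprime_dvd_left (Core.card_sup_dvd_of_le_normalizer h)

/-- Extends a `p'`-subgroup of a solvable group to a Hall `p'`-subgroup. -/
theorem exists_hallIn {K U : Subgroup G} (hK : Group.IsSolvable K) (hU : U ≤ K)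
    (hUc : (Nat.card U).Coprime p) : ∃ B, HallIn p B K ∧ U ≤ B := by
  have hn : Nat.card K ≠ 0 := Nat.card_pos.ne'
  set m := ordCompl[p] (Nat.card K) with hm
  set n := ordProj[p] (Nat.card K) with hn'
  have hmn : Nat.card K = m * n := by
    rw [mul_comm]; exact (Nat.ordProj_mul_ordCompl_eq_self _ p).symm
  have hmp : m.Coprime p := Nat.coprime_comm.1 (Nat.coprime_ordCompl hp.out hn)
  have hc : m.Coprime n := hmp.pow_right _
  obtain ⟨H, hH⟩ := Core.exists_hall hmn hc
  have hUn : (Nat.card (U.subgroupOf K)).Coprime n := by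
    rw [Nat.card_congr (subgroupOfEquivOfLe hU).toEquiv]
    exact hUc.pow_right _
  obtain ⟨g, hg⟩ := Core.exists_le_conj_hall hmn hc hH hUn
  refine ⟨(MulAut.conj g • H).map K.subtype, ⟨map_subtype_le _, ?_, (Nat.card K).factorization p, ?_⟩, ?_⟩
  · rw [Nat.card_congr (equivMapOfInjective _ _ K.subtype_injective).symm.toEquiv,
      Coprime.card_conj_smul, hH]
    exact hmp
  · rw [relIndex, subgroupOf, comap_map_eq_self_of_injective K.subtype_injective]
    have := (MulAut.conj g • H).card_mul_index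
    rw [Coprime.card_conj_smul, hH, hmn] at this
    exact Nat.eq_of_mul_eq_mul_left (Nat.pos_of_ne_zero fun h0 => hn (by rw [hmn, h0, zero_mul])) this
  · intro u hu
    exact ⟨⟨u, hU hu⟩, hg (by simpa [mem_subgroupOf] using hu), rfl⟩

/-! ### Solvable groups -/

section Solvable

variable [Group.IsSolvable G]

theorem fitting_eq_of_pCore_eq_bot (h : HP p G) (hO : Cfsg.pCore p G = ⊥) {B : Subgroup G}
    (hB : HallIn p B ⊤) : B.Normal ∧ centralizer (B : Set G) ≤ B := by
  have := Core.fittingSubgroup_isNilpotent (G := G)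
  set F := Cfsg.fittingSubgroup G with hFdef
  have hFc : (Nat.card F).Coprime p := by
    rw [coprime_iff]
    intro hd
    obtain ⟨S⟩ := (inferInstance : Nonempty (Sylow p F))
    have hSn : (S : Subgroup F).Normal :=
      S.normal_of_normalizerCondition normalizerCondition_of_isNilpotent
    have hle : (Cfsg.pCore p F).map F.subtype ≤ Cfsg.pCore p G := by
      rw [Core.map_pCore_normal]; exact inf_le_left
    rw [hO, le_bot_iff, map_eq_bot_iff_of_injective _ F.subtype_injective] at hle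
    have := Core.le_pCore (N := (S : Subgroup F)) S.2
    rw [hle, le_bot_iff] at this
    exact S.ne_bot_of_dvd_card hd this
  have hFB : F ≤ B := by
    have := hB.eq_of_le (U := B ⊔ F) le_sup_left le_top
      (coprime_sup hB.2.1 hFc (by rw [normalizer_eq_top]; exact le_top))
    rw [this]; exact le_sup_right
  have hBF : B = F := le_antisymm
    (fun b hb => Core.centralizer_fittingSubgroup_le (mem_centralizer_iff.2 fun f hf =>
      h.comm hB.2.1 (hFB hf) hb)) hFB
  subst hBF
  exact ⟨inferInstance, Core.centralizer_fittingSubgroup_le⟩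

theorem map_hall_top {B : Subgroup G} (hB : HallIn p B ⊤) {Y : Type u} [Group Y] [Finite Y]
    (f : G →* Y) (hf : Function.Surjective f) : HallIn p (B.map f) ⊤ := by
  refine ⟨le_top, hB.2.1.coprime_dvd_left (card_map_dvd _ _), ?_⟩
  obtain ⟨k, hk⟩ := hB.2.2
  rw [relIndex_top_right] at hk
  have hd := index_map_dvd B hf
  rw [hk] at hd
  obtain ⟨j, -, hj⟩ := (Nat.dvd_prime_pow hp.out).1 hd
  exact ⟨j, by rw [relIndex_top_right]; exact hj⟩

theorem pCore_sup_normal (h : HP p G) {B : Subgroup G} (hB : HallIn p B ⊤) :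
    (Cfsg.pCore p G ⊔ B).Normal := by
  set R := Cfsg.pCore p G
  have hn := (fitting_eq_of_pCore_eq_bot (h.quot R) Core.pCore_quotient_eq_bot
    (map_hall_top hB (QuotientGroup.mk' R) (QuotientGroup.mk'_surjective R))).1
  have := hn.comap (QuotientGroup.mk' R)
  rwa [comap_map_eq, QuotientGroup.ker_mk', sup_comm] at this

theorem pCore_sup_normalizer (h : HP p G) {B : Subgroup G} (hB : HallIn p B ⊤) :
    Cfsg.pCore p G ⊔ normalizer (B : Set G) = ⊤ := by
  haveI := pCore_sup_normal h hB
  have hcop : (Nat.card B).Coprime (B.relIndex (Cfsg.pCore p G ⊔ B)) := by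
    obtain ⟨k, hk⟩ := hB.2.2
    refine (hB.2.1.pow_right k).coprime_dvd_right ?_
    rw [← hk, relIndex_top_right]
    exact relIndex_dvd_index_of_le le_sup_right
  have := Core.sup_normalizer_hall (L := Cfsg.pCore p G ⊔ B) inferInstance le_sup_right hcop
  refine top_le_iff.1 ?_
  rw [← this, sup_assoc]
  exact sup_le_sup_left (sup_le le_normalizer le_rfl) _

theorem le_pCore_of_normalized (h : HP p G) {B : Subgroup G} (hB : HallIn p B ⊤) {T : Subgroup G}
    (hT : IsPGroup p T) (hBT : B ≤ normalizer (T : Set G)) : T ≤ Cfsg.pCore p G := by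
  set R := Cfsg.pCore p G
  set f := QuotientGroup.mk' R
  have hB' := map_hall_top hB f (QuotientGroup.mk'_surjective R)
  obtain ⟨hn, hcen⟩ := fitting_eq_of_pCore_eq_bot (h.quot R) Core.pCore_quotient_eq_bot hB'
  intro t ht
  suffices f t ∈ B.map f from
    (QuotientGroup.eq_one_iff t).1 (eq_one_of_mem hB'.2.1 (hT.map f) this (mem_map_of_mem f ht))
  refine hcen (mem_centralizer_iff.2 ?_)
  rintro _ ⟨b, hb, rfl⟩
  rw [← commutatorElement_eq_one_iff_mul_comm]
  refine eq_one_of_mem hB'.2.1 (hT.map f) ?_ ?_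
  · rw [commutatorElement_def, mul_assoc, mul_assoc, ← mul_assoc (f t)]
    exact mul_mem (mem_map_of_mem f hb) (hn.conj_mem _ (inv_mem (mem_map_of_mem f hb)) _)
  · rw [← map_commutatorElement]
    refine mem_map_of_mem f ?_
    rw [commutatorElement_def]
    exact mul_mem ((mem_normalizer_iff.1 (hBT hb) t).1 ht) (inv_mem ht)

end Solvable

theorem isSolvable_of_le {K L : Subgroup G} (h : K ≤ L) (hL : Group.IsSolvable L) :
    Group.IsSolvable K :=
  Group.isSolvable_of_isSolvable_injective (inclusion_injective h)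

theorem le_pCoreOf_of_normalized (h : HP p G) {B K T : Subgroup G} (hK : Group.IsSolvable K)
    (hB : HallIn p B K) (hTK : T ≤ K) (hT : IsPGroup p T) (hBT : B ≤ normalizer (T : Set G)) :
    T ≤ Cfsg.pCoreOf p K := by
  have hle := le_pCore_of_normalized (h.sub K) hB.top_of_sub (T := T.subgroupOf K)
    (hT.comap_subtype) (by
      intro b hb
      rw [mem_normalizer_iff]
      intro t
      exact mem_normalizer_iff.1 (hBT hb) (t : G))
  intro t ht
  exact ⟨⟨t, hTK ht⟩, hle ht, rfl⟩

theorem le_of_pCoreOf_and_normalizer (h : HP p G) {B K W : Subgroup G} (hK : Group.IsSolvable K)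
    (hB : HallIn p B K) (h1 : Cfsg.pCoreOf p K ≤ W)
    (h2 : K ⊓ normalizer (B : Set G) ≤ W) : K ≤ W := by
  have hsup := pCore_sup_normalizer (h.sub K) hB.top_of_sub
  intro k hk
  have hk' : (⟨k, hk⟩ : K) ∈ Cfsg.pCore p K ⊔ normalizer (B.subgroupOf K : Set K) := by
    rw [hsup]; trivial
  obtain ⟨a, ha, b, hb, he⟩ := mem_sup_of_normal_left.1 hk'
  have he' : (a : G) * (b : G) = k := congrArg Subtype.val he
  rw [← he']
  refine mul_mem (h1 ⟨a, ha, rfl⟩) (h2 ⟨b.2, ?_⟩)
  show (b : G) ∈ normalizer (B : Set G)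
  rw [mem_normalizer_iff]
  intro x
  refine ⟨fun hx => ?_, fun hx => ?_⟩
  · exact ((mem_normalizer_iff.1 hb) ⟨x, hB.1 hx⟩).1 hx
  · have hxK : x ∈ K := by
      have := K.mul_mem (K.mul_mem (K.inv_mem b.2) (hB.1 hx)) b.2
      simpa [mul_assoc] using this
    exact ((mem_normalizer_iff.1 hb) ⟨x, hxK⟩).2 hx

end Cfsg.Agent.AbelPPrime
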