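import Cfsg.Agent.AbelPPrime.Local

/-!
Counting elements shows that the minimal counterexample does not exist.
-/

set_option autoImplicit false

namespace Cfsg.Agent.AbelPPrime

open Subgroup
open scoped Pointwise

universe u

variable {p : ℕ} {G : Type u} [Group G] [Finite G] [hp : Fact p.Prime]

namespace Cx

/-- The class of a `p`-element, weighted by its centralizer, meets a Sylow subgroup often. -/
theorem normalizer_mul_le (hc : Cx p G) (P : Sylow p G) {a : G} (ha : IsPGroup p (zpowers a))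
    (ha1 : a ≠ 1) :
    Nat.card (normalizer ((P : Subgroup G) : Set G)) * ordCompl[p] (Nat.card (centralizer ({a} : Set G))) ≤
      Nat.card {g : G // g * a * g⁻¹ ∈ (P : Subgroup G)} := by
  set N := normalizer ((P : Subgroup G) : Set G) with hN
  set C := centralizer ({a} : Set G) with hC
  obtain ⟨Q, hQ⟩ := ha.exists_le_sylow
  obtain ⟨g₀, hg₀⟩ := MulAction.exists_smul_eq G Q P
  have hx : g₀ * a * g₀⁻¹ ∈ (P : Subgroup G) := by
    rw [← hg₀, Sylow.coe_subgroup_smul]
    exact smul_mem_pointwise_smul a (MulAut.conj g₀) _ (hQ (mem_zpowers a))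
  set x := g₀ * a * g₀⁻¹ with hxdef
  have hx1 : x ≠ 1 := fun e => ha1 (by simpa [hxdef] using e)
  set D := N ⊓ centralizer ({x} : Set G) with hD
  have hDp : IsPGroup p D := by
    intro d
    obtain ⟨u, v, he, -, hu, hv, hup, hvp⟩ := exists_decomp (p := p) (d : G)
    have hvD : v ∈ D := zpowers_le.2 d.2 hv
    have hv1 : v = 1 := hc.eq_one_of_commute P hvD.1 hvp hx hx1
      (mem_centralizer_singleton_iff.1 hvD.2).symm
    rw [hv1, mul_one] at he
    obtain ⟨k, hk⟩ := hup ⟨u, mem_zpowers u⟩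
    exact ⟨k, Subtype.ext (by rw [SubmonoidClass.coe_pow, he]; simpa using congrArg Subtype.val hk)⟩
  obtain ⟨k, hk⟩ := IsPGroup.iff_card.1 hDp
  have hDC : MulAut.conj g₀⁻¹ • D ≤ C := by
    intro c hc'
    rw [mem_pointwise_smul_iff_inv_smul_mem, ← map_inv, inv_inv, MulAut.smul_def, MulAut.conj_apply] at hc'
    have h := mem_centralizer_singleton_iff.1 hc'.2
    refine mem_centralizer_singleton_iff.2 ?_
    calc c * a = g₀⁻¹ * (g₀ * c * g₀⁻¹ * x) * g₀ := by rw [hxdef]; group
      _ = g₀⁻¹ * (x * (g₀ * c * g₀⁻¹)) * g₀ := by rw [h]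
      _ = a * c := by rw [hxdef]; group
  have hC0 : Nat.card C ≠ 0 := Nat.card_pos.ne'
  have hkC : p ^ k ∣ Nat.card C := by
    have h := card_dvd_of_le hDC
    rwa [Coprime.card_conj_smul, hk] at h
  -- the fibres of `(n, c) ↦ n g₀ c` lie in cosets of `D`
  classical
  let T := {g : G // g * a * g⁻¹ ∈ (P : Subgroup G)}
  have hmem : ∀ (n : N) (c : C), ((n : G) * g₀ * c) * a * ((n : G) * g₀ * c)⁻¹ ∈ (P : Subgroup G) := by
    intro n c
    rw [show ((n : G) * g₀ * c) * a * ((n : G) * g₀ * c)⁻¹ = (n : G) * (g₀ * ((c : G) * a * (c : G)⁻¹) * g₀⁻¹) * (n : G)⁻¹ by group,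
      mem_centralizer_singleton_iff.1 c.2, mul_inv_cancel_right]
    exact (mem_normalizer_iff.1 n.2 _).1 hx
  let ψ : N × C → T := fun nc => ⟨(nc.1 : G) * g₀ * nc.2, hmem nc.1 nc.2⟩
  let sec : T → N × C := fun t => if h : ∃ nc, ψ nc = t then h.choose else (1, 1)
  have hsec : ∀ nc, ψ (sec (ψ nc)) = ψ nc := fun nc => by
    have h : ∃ nc', ψ nc' = ψ nc := ⟨nc, rfl⟩
    show ψ (if h : ∃ nc', ψ nc' = ψ nc then h.choose else (1, 1)) = ψ nc
    rw [dif_pos h]
    exact h.choose_spec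
  have hfib : ∀ nc : N × C, (((sec (ψ nc)).1 : G))⁻¹ * (nc.1 : G) ∈ D := by
    intro nc
    set s := sec (ψ nc) with hs
    have he : (s.1 : G) * g₀ * s.2 = (nc.1 : G) * g₀ * nc.2 := congrArg Subtype.val (hsec nc)
    refine ⟨N.mul_mem (N.inv_mem s.1.2) nc.1.2, ?_⟩
    have he2 : (s.1 : G)⁻¹ * (nc.1 : G) = g₀ * ((s.2 : G) * (nc.2 : G)⁻¹) * g₀⁻¹ := by
      rw [show (nc.1 : G) = (s.1 : G) * g₀ * s.2 * (nc.2 : G)⁻¹ * g₀⁻¹ by rw [he]; group]
      group
    have hu := mem_centralizer_singleton_iff.1 (C.mul_mem s.2.2 (C.inv_mem nc.2.2))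
    show (s.1 : G)⁻¹ * (nc.1 : G) ∈ centralizer ({x} : Set G)
    rw [mem_centralizer_singleton_iff, he2]
    calc g₀ * ((s.2 : G) * (nc.2 : G)⁻¹) * g₀⁻¹ * x
        = g₀ * (((s.2 : G) * (nc.2 : G)⁻¹) * a) * g₀⁻¹ := by rw [hxdef]; group
      _ = g₀ * (a * ((s.2 : G) * (nc.2 : G)⁻¹)) * g₀⁻¹ := by rw [hu]
      _ = x * (g₀ * ((s.2 : G) * (nc.2 : G)⁻¹) * g₀⁻¹) := by rw [hxdef]; group
  have hle : Nat.card (N × C) ≤ Nat.card (T × D) := by
    refine Nat.card_le_card_of_injective
      (fun nc => (ψ nc, (⟨_, hfib nc⟩ : D))) fun nc mc h => ?_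
    have h1 : ψ nc = ψ mc := congrArg Prod.fst h
    have h2 : (((sec (ψ nc)).1 : G))⁻¹ * (nc.1 : G) = (((sec (ψ mc)).1 : G))⁻¹ * (mc.1 : G) :=
      congrArg (fun z : T × D => ((z.2 : D) : G)) h
    rw [h1] at h2
    have hn : (nc.1 : G) = mc.1 := mul_left_cancel h2
    have h3 : (nc.1 : G) * g₀ * nc.2 = (mc.1 : G) * g₀ * mc.2 := congrArg Subtype.val h1
    rw [hn] at h3
    exact Prod.ext (Subtype.ext hn) (Subtype.ext (mul_left_cancel h3))
  rw [Nat.card_prod, Nat.card_prod, hk] at hle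
  have hpk : p ^ k * ordCompl[p] (Nat.card C) ≤ Nat.card C := by
    conv_rhs => rw [← Nat.ordProj_mul_ordCompl_eq_self (Nat.card C) p]
    exact Nat.mul_le_mul_right _ (Nat.pow_le_pow_right hp.out.pos
      ((hp.out.pow_dvd_iff_le_factorization hC0).1 hkC))
  refine Nat.le_of_mul_le_mul_right ?_ (Nat.pow_pos (n := k) hp.out.pos)
  calc _ = Nat.card N * (p ^ k * ordCompl[p] (Nat.card C)) := by ring
    _ ≤ Nat.card N * Nat.card C := Nat.mul_le_mul_left _ hpk
    _ ≤ _ := hle

/-- The nontrivial `p`-elements. -/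
abbrev PEl (p : ℕ) (G : Type u) [Group G] := {a : G // IsPGroup p (zpowers a) ∧ a ≠ 1}

/-- Bound on the number of elements of order divisible by `p`. -/
theorem card_singular_le (hc : Cx p G) (P : Sylow p G) :
    2 * Nat.card (P : Subgroup G) * Nat.card {g : G // p ∣ orderOf g} ≤
      (Nat.card (P : Subgroup G) - 1) * Nat.card G := by
  classical
  have := Fintype.ofFinite G
  have := Fintype.ofFinite (PEl p G)
  choose u v hdec hcomm hu hv hup hvp using fun g : G => exists_decomp (p := p) g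
  have hu1 : ∀ g : G, p ∣ orderOf g → u g ≠ 1 := fun g hg e =>
    coprime_iff.1 (hvp g) (by rwa [hdec g, e, one_mul] at hg)
  have h1 : Nat.card {g : G // p ∣ orderOf g} ≤
      ∑ a : PEl p G, Nat.card {c : G // c ∈ centralizer ({(a : G)} : Set G) ∧ (orderOf c).Coprime p} := by
    rw [← Nat.card_sigma]
    refine Nat.card_le_card_of_injective
      (fun g => ⟨⟨u g, hup g, hu1 g g.2⟩, ⟨v g, mem_centralizer_singleton_iff.2 (hcomm g).eq.symm, hvp g⟩⟩)
      fun g k h => Subtype.ext ?_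
    have h' := congrArg (fun z : Σ a : PEl p G,
      {c : G // c ∈ centralizer ({(a : G)} : Set G) ∧ (orderOf c).Coprime p} => (z.1 : G) * z.2.1) h
    calc (g : G) = u g * v g := hdec g
      _ = u k * v k := h'
      _ = k := (hdec k).symm
  have h2 : ∑ a : PEl p G, Nat.card {g : G // g * a * g⁻¹ ∈ (P : Subgroup G)} ≤
      (Nat.card (P : Subgroup G) - 1) * Nat.card G := by
    rw [← Nat.card_sigma]
    have := Fintype.ofFinite (P : Subgroup G)
    have hcard : Nat.card {x : (P : Subgroup G) // x ≠ 1} = Nat.card (P : Subgroup G) - 1 := by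
      rw [Nat.card_eq_fintype_card, Nat.card_eq_fintype_card, Fintype.card_subtype_compl,
        Fintype.card_subtype_eq]
    rw [← hcard, ← Nat.card_prod]
    refine Nat.card_le_card_of_injective
      (fun z : Σ a : PEl p G, {g : G // g * a * g⁻¹ ∈ (P : Subgroup G)} =>
        ((⟨⟨z.2.1 * z.1 * z.2.1⁻¹, z.2.2⟩, fun e => z.1.2.2 (by
          have := congrArg Subtype.val e
          simpa using this)⟩ : {x : (P : Subgroup G) // x ≠ 1}), z.2.1)) ?_
    rintro ⟨a, g, hg⟩ ⟨b, k, hk⟩ h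
    obtain rfl : g = k := congrArg Prod.snd h
    have h' : g * (a : G) * g⁻¹ = g * (b : G) * g⁻¹ :=
      congrArg (fun z : {x : (P : Subgroup G) // x ≠ 1} × G => ((z.1.1 : (P : Subgroup G)) : G)) h
    obtain rfl : a = b := Subtype.ext (mul_left_cancel (mul_right_cancel h'))
    rfl
  refine le_trans ?_ h2
  refine (Nat.mul_le_mul_left _ h1).trans ?_
  rw [Finset.mul_sum]
  refine Finset.sum_le_sum fun a _ => ?_
  refine le_trans ?_ (hc.normalizer_mul_le P a.2.1 a.2.2)
  exact Nat.mul_le_mul (hc.two_mul_card_le_normalizer P) (hc.card_coprime_centralizer_le a.2.1 a.2.2)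

/-- Bound on the number of `p'`-elements of order divisible by the prime `q`. -/
theorem card_prime_le (hc : Cx p G) {q : ℕ} (hq : q.Prime) (hqd : q ∣ Nat.card G) (hqp : q ≠ p) :
    p * Nat.card {g : G // (orderOf g).Coprime p ∧ q ∣ orderOf g} ≤ Nat.card G := by
  have := Fact.mk hq
  have hqc : q.Coprime p := (Nat.coprime_primes hq hp.out).2 hqp
  obtain ⟨b, hb⟩ := exists_prime_orderOf_dvd_card' q hqd
  obtain ⟨H, hH, hle⟩ := exists_maxPP (p := p) (U := zpowers b) (coprime_zpowers (by rwa [hb]))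
  have hbH : b ∈ H := hle (mem_zpowers b)
  have hb1 : b ≠ 1 := fun e => hq.one_lt.ne (by rw [← hb, e, orderOf_one])
  have hqH : ¬ q ∣ H.index := fun h => hq.one_lt.ne' (Nat.dvd_one.1 (by
    rw [← (hc.coprime_index hH : _ = 1)]
    exact Nat.dvd_gcd (hb ▸ by rw [← Nat.card_zpowers]; exact card_dvd_of_le (zpowers_le.2 hbH)) h))
  obtain ⟨Q⟩ := (inferInstance : Nonempty (Sylow q H))
  set Q' := (Q : Subgroup H).map H.subtype with hQ'
  have hQ'i : ¬ q ∣ Q'.index := by
    have h : Q'.index = (Q : Subgroup H).index * H.index := by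
      rw [hQ', index_map_subtype]
    rw [h]
    exact fun hd => (hq.dvd_mul.1 hd).elim Q.not_dvd_index hqH
  set QS : Sylow q G := (Q.2.map H.subtype).toSylow hQ'i with hQS
  set N := normalizer (H : Set G) with hN
  have hconj : ∀ g : G, (orderOf g).Coprime p → q ∣ orderOf g → ∃ x : G, x * g * x⁻¹ ∈ H := by
    intro g hgp hgq
    set d := g ^ (orderOf g / q) with hd
    have hdq : orderOf d = q := by
      rw [hd, orderOf_pow' _ (Nat.div_pos (Nat.le_of_dvd (orderOf_pos g) hgq) hq.pos).ne',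
        Nat.gcd_eq_right (Nat.div_dvd_of_dvd hgq), Nat.div_div_self hgq (orderOf_pos g).ne']
    have hdp : IsPGroup q (zpowers d) := IsPGroup.of_card (n := 1) (by rw [Nat.card_zpowers, hdq, pow_one])
    obtain ⟨R, hR⟩ := hdp.exists_le_sylow
    obtain ⟨x, hx⟩ := MulAction.exists_smul_eq G R QS
    have hxd : x * d * x⁻¹ ∈ H := by
      have h : x * d * x⁻¹ ∈ (QS : Subgroup G) := by
        rw [← hx, Sylow.coe_subgroup_smul]
        exact smul_mem_pointwise_smul d (MulAut.conj x) _ (hR (mem_zpowers d))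
      exact map_subtype_le _ h
    refine ⟨x, hc.mem_of_normalizes hH (hc.centralizer_le_normalizer' hH hxd ?_
      (mem_centralizer_singleton_iff.2 ?_)) ?_⟩
    · exact fun e => hq.one_lt.ne (by rw [← hdq, show d = 1 by simpa using e, orderOf_one])
    · exact (((Commute.refl g).pow_right _).map (MulAut.conj x)).eq
    · rw [← MulAut.conj_apply]
      exact ((MulAut.conj x).orderOf_eq g).symm ▸ hgp
  classical
  choose x hx using fun g : {g : G // (orderOf g).Coprime p ∧ q ∣ orderOf g} => hconj g g.2.1 g.2.2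
  let r : G → G := fun g => (QuotientGroup.mk g⁻¹ : G ⧸ N).out
  have hr : ∀ g : G, (g * r g) ∈ N := fun g => by
    obtain ⟨n, hn⟩ := QuotientGroup.mk_out_eq_mul N g⁻¹
    show g * (QuotientGroup.mk g⁻¹ : G ⧸ N).out ∈ N
    rw [hn, mul_inv_cancel_left]
    exact n.2
  have hmem : ∀ g : {g : G // (orderOf g).Coprime p ∧ q ∣ orderOf g},
      (r (x g))⁻¹ * (g : G) * r (x g) ∈ H := fun g => by
    have h := (mem_normalizer_iff.1 (N.inv_mem (hr (x g))) _).1 (hx g)
    rw [inv_inv] at h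
    convert h using 1
    group
  have hcard : Nat.card {g : G // (orderOf g).Coprime p ∧ q ∣ orderOf g} ≤ N.index * Nat.card H := by
    rw [index_eq_card, ← Nat.card_prod]
    refine Nat.card_le_card_of_injective
      (fun g => ((QuotientGroup.mk (x g)⁻¹ : G ⧸ N), (⟨_, hmem g⟩ : H))) fun g k h => Subtype.ext ?_
    have h1 : r (x g) = r (x k) := congrArg (fun z : (G ⧸ N) × H => z.1.out) h
    have h2 : (r (x g))⁻¹ * (g : G) * r (x g) = (r (x k))⁻¹ * (k : G) * r (x k) :=
      congrArg (fun z : (G ⧸ N) × H => ((z.2 : H) : G)) h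
    rw [h1] at h2
    exact mul_left_cancel (mul_right_cancel h2)
  have hpN : p * Nat.card H ≤ Nat.card N := by
    refine Nat.le_of_dvd Nat.card_pos ((Nat.coprime_comm.1 hH.1).mul_dvd_of_dvd_of_dvd ?_
      (card_dvd_of_le le_normalizer))
    obtain ⟨y, hy, hyp, hyb⟩ := hc.exists_moving hH hbH hb1
    obtain ⟨k, hk⟩ := IsPGroup.iff_card.1 hyp
    have hk0 : k ≠ 0 := by
      rintro rfl
      rw [pow_zero, Subgroup.card_eq_one, zpowers_eq_bot] at hk
      exact hyb (by rw [hk, one_mul, mul_one])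
    exact (dvd_pow_self p hk0).trans (hk ▸ card_dvd_of_le (zpowers_le.2 hy))
  calc p * Nat.card {g : G // (orderOf g).Coprime p ∧ q ∣ orderOf g}
      ≤ p * (N.index * Nat.card H) := Nat.mul_le_mul_left _ hcard
    _ = N.index * (p * Nat.card H) := by ring
    _ ≤ N.index * Nat.card N := Nat.mul_le_mul_left _ hpN
    _ = Nat.card G := N.index_mul_card

theorem false (hc : Cx p G) : False := by
  classical
  have := Fintype.ofFinite G
  obtain ⟨P⟩ := (inferInstance : Nonempty (Sylow p G))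
  set s := (Nat.card G).primeFactors.erase p with hs
  have hsmem : ∀ q ∈ s, q.Prime ∧ q ∣ Nat.card G ∧ q ≠ p := fun q hq =>
    ⟨Nat.prime_of_mem_primeFactors (Finset.mem_of_mem_erase hq),
      Nat.dvd_of_mem_primeFactors (Finset.mem_of_mem_erase hq), Finset.ne_of_mem_erase hq⟩
  -- few primes
  have hsp : s ⊆ (p - 1).primeFactors := by
    intro q hq
    obtain ⟨hqP, hqd, hqp⟩ := hsmem q hq
    have := Fact.mk hqP
    obtain ⟨b, hb⟩ := exists_prime_orderOf_dvd_card' q hqd
    have h := orderOf_dvd_pred hc.hpp (g := b) (by rw [hb]; exact (Nat.coprime_primes hqP hp.out).2 hqp)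
    rw [hb] at h
    exact Nat.mem_primeFactors.2 ⟨hqP, h, by have := hp.out.two_le; omega⟩
  have hc2 : 2 * s.card ≤ p - 1 := by
    have h1 : 2 ^ s.card ≤ ∏ q ∈ s, q := Finset.pow_card_le_prod _ _ _ fun q hq => (hsmem q hq).1.two_le
    have h2 : ∏ q ∈ s, q ≤ p - 1 := Nat.le_of_dvd (by have := hp.out.two_le; omega)
      ((Finset.prod_dvd_prod_of_subset _ _ _ hsp).trans (Nat.prod_primeFactors_dvd _))
    rcases Nat.eq_zero_or_pos s.card with h | h
    · omega
    · have h3 : 2 * s.card ≤ 2 ^ s.card := by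
        obtain ⟨m, hm⟩ : ∃ m, s.card = m + 1 := ⟨s.card - 1, by omega⟩
        rw [hm, pow_succ, mul_comm (2 ^ m)]
        exact Nat.mul_le_mul_left _ m.lt_two_pow_self
      omega
  -- every element is counted
  let F : ℕ → Finset G := fun q => Finset.univ.filter fun g => (orderOf g).Coprime p ∧ q ∣ orderOf g
  let Z : Finset G := Finset.univ.filter fun g => p ∣ orderOf g
  have hcov : (Finset.univ : Finset G) ⊆ ({1} ∪ Z) ∪ s.biUnion F := by
    intro g _
    rcases eq_or_ne g 1 with rfl | hg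
    · simp
    by_cases hd : p ∣ orderOf g
    · simp [Z, hd]
    · obtain ⟨q, hq, hqd⟩ := Nat.exists_prime_and_dvd (fun e => hg (orderOf_eq_one_iff.1 e))
      have hqG : q ∣ Nat.card G := hqd.trans (orderOf_dvd_natCard g)
      refine Finset.mem_union_right _ (Finset.mem_biUnion.2 ⟨q, ?_, ?_⟩)
      · exact Finset.mem_erase.2 ⟨fun e => hd (e ▸ hqd), Nat.mem_primeFactors.2 ⟨hq, hqG, Nat.card_pos.ne'⟩⟩
      · simp [F, coprime_iff, hd, hqd]
  have hG : Nat.card G ≤ 1 + Z.card + (s.biUnion F).card := by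
    have := Finset.card_le_card hcov
    rw [Finset.card_univ, ← Nat.card_eq_fintype_card] at this
    have h2 := Finset.card_union_le ({1} ∪ Z) (s.biUnion F)
    have h3 := Finset.card_union_le ({1} : Finset G) Z
    rw [Finset.card_singleton] at h3
    omega
  have hF : p * (s.biUnion F).card ≤ s.card * Nat.card G := by
    refine (Nat.mul_le_mul_left _ Finset.card_biUnion_le).trans ?_
    rw [Finset.mul_sum, ← smul_eq_mul s.card, ← Finset.sum_const]
    refine Finset.sum_le_sum fun q hq => ?_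
    obtain ⟨hqP, hqd, hqp⟩ := hsmem q hq
    refine le_of_eq_of_le ?_ (hc.card_prime_le hqP hqd hqp)
    rw [Nat.card_eq_fintype_card (α := {g : G // (orderOf g).Coprime p ∧ q ∣ orderOf g}),
      Fintype.card_subtype]
  have hZ : 2 * Nat.card (P : Subgroup G) * Z.card ≤ (Nat.card (P : Subgroup G) - 1) * Nat.card G := by
    refine le_of_eq_of_le ?_ (hc.card_singular_le P)
    rw [Nat.card_eq_fintype_card (α := {g : G // p ∣ orderOf g}), Fintype.card_subtype]
  have hPn := hc.two_mul_card_le_normalizer P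
  have hNG := card_le_card_group (normalizer ((P : Subgroup G) : Set G))
  have hP1 : 1 ≤ Nat.card (P : Subgroup G) := Nat.card_pos
  have hG1 : 1 ≤ Nat.card G := Nat.card_pos
  have h5 := hc.five
  obtain ⟨n, hn⟩ : ∃ n, Nat.card (P : Subgroup G) = n + 1 := ⟨_, (Nat.succ_pred_eq_of_pos hP1).symm⟩
  obtain ⟨m, hm⟩ : ∃ m, p = m + 1 := ⟨p - 1, by omega⟩
  rw [hn, Nat.add_sub_cancel] at hZ
  rw [hm, Nat.add_sub_cancel] at hc2
  have a1 := Nat.mul_le_mul_left (2 * p * (n + 1)) hG
  have a2 := Nat.mul_le_mul_left (2 * (n + 1)) hF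
  have a3 := Nat.mul_le_mul_left p hZ
  have a4 := Nat.mul_le_mul_left ((n + 1) * Nat.card G) hc2
  have a5 := Nat.mul_le_mul_left p (show 2 * (n + 1) ≤ Nat.card G by omega)
  have a6 : 1 ≤ (n + 1) * Nat.card G := Nat.mul_pos (by omega) hG1
  subst hm
  nlinarith

end Cx

end Cfsg.Agent.AbelPPrime
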