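import Cfsg.Agent.AbelPPrime.Maximal

/-!
Centralisers of `p`-elements and the normalizer of a Sylow subgroup in the minimal counterexample.
-/

set_option autoImplicit false

namespace Cfsg.Agent.AbelPPrime

open Subgroup
open scoped Pointwise commutatorElement

universe u

variable {p : ℕ} {G : Type u} [Group G] [Finite G] [hp : Fact p.Prime]

namespace Cx

variable {H : Subgroup G}

/-- The normalizer of a maximal `p'`-subgroup is `H` times any of its Sylow subgroups. -/
theorem exists_mul_of_mem_normalizer (hc : Cx p G) (hH : MaxPP p H) {N : Subgroup G}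
    (hN : N ≤ normalizer (H : Set G)) (S : Sylow p N) {n : G} (hn : n ∈ N) :
    ∃ s ∈ (S : Subgroup N).map N.subtype, ∃ h ∈ H, n = s * h := by
  have : (H.subgroupOf N).Normal := normal_subgroupOf_of_le_normalizer hN
  set f := QuotientGroup.mk' (H.subgroupOf N)
  have hQ : IsPGroup p (N ⧸ H.subgroupOf N) := by
    intro x
    obtain ⟨y, rfl⟩ := QuotientGroup.mk'_surjective _ x
    obtain ⟨a, c, he, -, ha, hc', hap, hcp⟩ := exists_decomp (p := p) (y : G)
    have haN : a ∈ N := zpowers_le.2 y.2 ha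
    have hcH : c ∈ H := hc.mem_of_normalizes hH (hN (zpowers_le.2 y.2 hc')) hcp
    obtain ⟨k, hk⟩ := hap ⟨a, mem_zpowers a⟩
    have hy : y = ⟨a, haN⟩ * ⟨c, zpowers_le.2 y.2 hc'⟩ := Subtype.ext he
    refine ⟨k, ?_⟩
    have h1 : QuotientGroup.mk' (H.subgroupOf N) ⟨c, zpowers_le.2 y.2 hc'⟩ = 1 :=
      (QuotientGroup.eq_one_iff _).2 hcH
    rw [hy, map_mul, h1, mul_one, ← map_pow,
      show (⟨a, haN⟩ : N) ^ p ^ k = 1 from Subtype.ext (by simpa using congrArg Subtype.val hk), map_one]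
  have hS : (S : Subgroup N).map f = ⊤ := by
    have h := (S.mapSurjective (QuotientGroup.mk'_surjective (H.subgroupOf N))).3 (hQ.to_subgroup ⊤) le_top
    rw [Sylow.coe_mapSurjective] at h
    exact h.symm
  obtain ⟨s, hs, he⟩ : f ⟨n, hn⟩ ∈ (S : Subgroup N).map f := by rw [hS]; trivial
  refine ⟨s, ⟨s, hs, rfl⟩, (s : G)⁻¹ * n, ?_, by group⟩
  exact mem_subgroupOf.1 (QuotientGroup.eq.1 he)

/-- A `p`-element commuting with some `b ∈ H#` has its centralizer in `N(H)`. -/
theorem centralizer_le_of_commute (hc : Cx p G) (hH : MaxPP p H) {b : G} (hb : b ∈ H) (hb1 : b ≠ 1)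
    {y : G} (hy : IsPGroup p (zpowers y)) (hy1 : y ≠ 1) (hby : y * b = b * y) :
    centralizer ({y} : Set G) ≤ normalizer (H : Set G) := by
  by_cases hcyc : ¬ IsCyclic (H ⊓ centralizer ({y} : Set G) : Subgroup G)
  · exact hc.le_normalizer_of_noncyclic hH (hc.solv_centralizer hy1) inf_le_left inf_le_right hcyc
  rw [not_not] at hcyc
  exfalso
  set C := centralizer ({b} : Set G) with hC
  set N := normalizer (H : Set G) with hN
  have hCN : C ≤ N := hc.centralizer_le_normalizer' hH hb hb1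
  have hyC : y ∈ C := mem_centralizer_singleton_iff.2 hby
  obtain ⟨E₀, hE₀⟩ := (hy.comap_subtype (K := C)).exists_le_sylow
  set E := (E₀ : Subgroup C).map C.subtype with hE
  have hEp : IsPGroup p E := E₀.2.map _
  have hEC : E ≤ C := map_subtype_le _
  have hyE : y ∈ E := ⟨⟨y, hyC⟩, hE₀ (show (⟨y, hyC⟩ : C) ∈ (zpowers y).subgroupOf C from mem_zpowers y), rfl⟩
  obtain ⟨S₀, hS₀⟩ := (hEp.comap_subtype (K := N)).exists_le_sylow
  set S := (S₀ : Subgroup N).map N.subtype with hS
  have hSp : IsPGroup p S := S₀.2.map _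
  have hSN : S ≤ N := map_subtype_le _
  have hES : E ≤ S := fun e he =>
    ⟨⟨e, hCN (hEC he)⟩, hS₀ (show (⟨e, hCN (hEC he)⟩ : N) ∈ E.subgroupOf N from he), rfl⟩
  set B := H ⊓ centralizer (E : Set G) with hB
  have hBle : B ≤ H ⊓ centralizer ({y} : Set G) :=
    inf_le_inf_left _ (centralizer_le (Set.singleton_subset_iff.2 hyE))
  have hBc : IsCyclic B := isCyclic_of_injective _ (inclusion_injective hBle)
  have hbB : b ∈ B := ⟨hb, mem_centralizer_iff.2 fun e he => mem_centralizer_singleton_iff.1 (hEC he)⟩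
  have hmax : ∀ x ∈ S, x ∈ normalizer (E : Set G) → x ∈ E := by
    intro x hxS hxE
    have hxp : IsPGroup p (zpowers x) := hSp.to_le (zpowers_le.2 hxS)
    have hxB : x ∈ normalizer (B : Set G) := mem_normalizer_fintype fun t ht => by
      refine ⟨(mem_normalizer_iff.1 (hSN hxS) t).1 ht.1, mem_centralizer_iff.2 fun e he => ?_⟩
      have he' : x⁻¹ * e * x ∈ E := (mem_normalizer_iff''.1 hxE e).1 he
      have h := mem_centralizer_iff.1 ht.2 _ he'
      calc e * (x * t * x⁻¹) = x * ((x⁻¹ * e * x) * t) * x⁻¹ := by group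
        _ = x * (t * (x⁻¹ * e * x)) * x⁻¹ := by rw [h]
        _ = x * t * x⁻¹ * e := by group
    have hxb := centralizes_of_cyclic hc.hpp
      (hH.1.coprime_dvd_left (card_dvd_of_le inf_le_left)) hBc hxB hxp hbB
    have hxC : x ∈ C := mem_centralizer_singleton_iff.2 hxb
    have hle : E ⊔ zpowers x ≤ S := sup_le hES (zpowers_le.2 hxS)
    have hE' : (E₀ : Subgroup C) ≤ (E ⊔ zpowers x).subgroupOf C := fun e he =>
      mem_sup_left (⟨e, he, rfl⟩ : (e : G) ∈ E)
    have h := E₀.3 ((hSp.to_le hle).comap_subtype (K := C)) hE'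
    have hxm : (⟨x, hxC⟩ : C) ∈ Subgroup.comap C.subtype (E ⊔ zpowers x) :=
      mem_sup_right (mem_zpowers x)
    rw [h] at hxm
    exact ⟨_, hxm, rfl⟩
  have hSE : S ≤ E := by
    by_contra hne
    have hlt := inf_lt_of_normalizer hSp (lt_of_le_not_ge hES hne)
    exact hlt.not_ge fun x hx => hmax x hx.1 hx.2
  refine hb1 (hc.eq_one_of_fixed hH hb fun n hn => ?_)
  obtain ⟨s, hs, h, hh, rfl⟩ := hc.exists_mul_of_mem_normalizer hH le_rfl S₀ hn
  have hsb : s * b = b * s := mem_centralizer_singleton_iff.1 (hEC (hSE hs))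
  rw [mul_assoc, hc.hpp.comm hH.1 hh hb, ← mul_assoc, hsb, mul_assoc]

/-- A `p'`-element normalising a Sylow subgroup centralises none of its elements. -/
theorem eq_one_of_commute (hc : Cx p G) (P : Sylow p G) {a : G}
    (ha : a ∈ normalizer ((P : Subgroup G) : Set G)) (hap : (orderOf a).Coprime p) {y : G}
    (hy : y ∈ (P : Subgroup G)) (hy1 : y ≠ 1) (hay : y * a = a * y) : a = 1 := by
  by_contra ha1
  obtain ⟨H, hH, hle⟩ := exists_maxPP (coprime_zpowers hap)
  have haH : a ∈ H := hle (mem_zpowers a)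
  have hsep : ∀ x ∈ (P : Subgroup G), x ∈ normalizer (H : Set G) → x * a = a * x := by
    intro x hxP hxN
    refine commutatorElement_eq_one_iff_mul_comm.1 (eq_one_of_mem hH.1 P.2 ?_ ?_)
    · exact H.mul_mem ((mem_normalizer_iff.1 hxN a).1 haH) (H.inv_mem haH)
    · rw [commutatorElement_def, mul_assoc, mul_assoc, ← mul_assoc a]
      exact (P : Subgroup G).mul_mem hxP
        ((mem_normalizer_iff.1 ha _).1 ((P : Subgroup G).inv_mem hxP))
  have hPp : ∀ x ∈ (P : Subgroup G), IsPGroup p (zpowers x) := fun x hx => P.2.to_le (zpowers_le.2 hx)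
  have hCy := hc.centralizer_le_of_commute hH haH ha1 (hPp y hy) hy1 hay
  haveI : Nontrivial (P : Subgroup G) :=
    (nontrivial_iff_ne_bot _).2 (P.ne_bot_of_dvd_card hc.dvd_card)
  haveI := P.2.center_nontrivial
  obtain ⟨z, hz⟩ := exists_ne (1 : center (P : Subgroup G))
  have hzc : ∀ x ∈ (P : Subgroup G), x * ((z : (P : Subgroup G)) : G) = ((z : (P : Subgroup G)) : G) * x :=
    fun x hx => congrArg Subtype.val (mem_center_iff.1 z.2 ⟨x, hx⟩)
  set w : G := ((z : (P : Subgroup G)) : G) with hw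
  have hwP : w ∈ (P : Subgroup G) := (z : (P : Subgroup G)).2
  have hw1 : w ≠ 1 := fun e => hz (Subtype.ext (Subtype.ext e))
  have hwa : w * a = a * w :=
    hsep w hwP (hCy (mem_centralizer_singleton_iff.2 (hzc y hy).symm))
  have hPN : (P : Subgroup G) ≤ normalizer (H : Set G) := fun x hx =>
    hc.centralizer_le_of_commute hH haH ha1 (hPp w hwP) hw1 hwa
      (mem_centralizer_singleton_iff.2 (hzc x hx))
  refine ha1 (hc.eq_one_of_fixed hH haH fun n hn => ?_)
  obtain ⟨s, hs, h, hh, rfl⟩ := hc.exists_mul_of_mem_normalizer hH le_rfl (P.subtype hPN) hn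
  rw [Sylow.coe_subtype, map_subgroupOf_eq_of_le hPN] at hs
  rw [mul_assoc, hc.hpp.comm hH.1 hh haH, ← mul_assoc, hsep s hs (hPN hs), mul_assoc]

/-- A Sylow subgroup is properly contained in its normalizer. -/
theorem two_mul_card_le_normalizer (hc : Cx p G) (P : Sylow p G) :
    2 * Nat.card (P : Subgroup G) ≤ Nat.card (normalizer ((P : Subgroup G) : Set G)) := by
  set N := normalizer ((P : Subgroup G) : Set G) with hN
  obtain ⟨k, hk⟩ := card_dvd_of_le (le_normalizer : (P : Subgroup G) ≤ N)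
  rw [hk, mul_comm 2]
  refine Nat.mul_le_mul_left _ ?_
  by_contra hlt
  have hk1 : k = 1 := by
    have : k ≠ 0 := fun e => Nat.card_pos.ne' (hk.trans (by rw [e, mul_zero]))
    omega
  have hNP : N = (P : Subgroup G) :=
    (eq_of_le_of_card_ge le_normalizer (by rw [hk, hk1, mul_one])).symm
  have hPne : (P : Subgroup G) ≠ ⊥ := P.ne_bot_of_dvd_card hc.dvd_card
  set W := Fusion.zInter 0 (P : Subgroup G) with hW
  have hWne : W ≠ ⊥ := QdFree.zInter_ne_bot P.2 hPne
  have hWtop : W ≠ ⊤ := fun e => hc.not_isPGroup_top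
    ((e ▸ P.2.to_le (Fusion.zInter_le 0 (P : Subgroup G)) : IsPGroup p (⊤ : Subgroup G)).of_equiv
      Subgroup.topEquiv)
  have hPW : (P : Subgroup G) ≤ normalizer (W : Set G) := fun x hx =>
    Fusion.mem_normalizer_zInter (le_normalizer hx)
  obtain ⟨h1, h2⟩ := hc.sylow_normal_of_zj P (hc.solv _ (hc.normalizer_ne_top hWne hWtop)) hPW le_rfl
  rw [← hN, hNP] at h1
  exact (Fusion.isPGroup_commutator_lt P.2 hPne).not_ge (h2.trans (commutator_mono h1 h1))

/-- The `p'`-elements of the centralizer of a nontrivial `p`-element. -/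
theorem card_coprime_centralizer_le (hc : Cx p G) {y : G} (hy : IsPGroup p (zpowers y)) (hy1 : y ≠ 1) :
    Nat.card {c : G // c ∈ centralizer ({y} : Set G) ∧ (orderOf c).Coprime p} ≤
      ordCompl[p] (Nat.card (centralizer ({y} : Set G))) := by
  set C := centralizer ({y} : Set G) with hC
  have hC0 : Nat.card C ≠ 0 := Nat.card_pos.ne'
  suffices ∃ U : Subgroup G, U ≤ C ∧ (Nat.card U).Coprime p ∧
      ∀ c ∈ C, (orderOf c).Coprime p → c ∈ U by
    obtain ⟨U, hUC, hUc, hmem⟩ := this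
    calc Nat.card {c : G // c ∈ C ∧ (orderOf c).Coprime p} ≤ Nat.card U :=
        Nat.card_le_card_of_injective
          (fun c : {c : G // c ∈ C ∧ (orderOf c).Coprime p} => (⟨c.1, hmem _ c.2.1 c.2.2⟩ : U))
          fun c d h => Subtype.ext (congrArg (fun u : U => (u : G)) h)
      _ ≤ _ := by
        refine Nat.le_of_dvd (Nat.ordCompl_pos p hC0) (Nat.Coprime.dvd_of_dvd_mul_left
          (hUc.pow_right ((Nat.card C).factorization p)) ?_)
        rw [Nat.ordProj_mul_ordCompl_eq_self]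
        exact card_dvd_of_le hUC
  by_cases h0 : ∀ c ∈ C, (orderOf c).Coprime p → c = 1
  · exact ⟨⊥, bot_le, by simp, fun c hc hcp => mem_bot.2 (h0 c hc hcp)⟩
  push Not at h0
  obtain ⟨c, hcC, hcp, hc1⟩ := h0
  obtain ⟨H, hH, hle⟩ := exists_maxPP (coprime_zpowers hcp)
  have hcH : c ∈ H := hle (mem_zpowers c)
  have hCN := hc.centralizer_le_of_commute hH hcH hc1 hy hy1
    (mem_centralizer_singleton_iff.1 hcC).symm
  exact ⟨H ⊓ C, inf_le_right, hH.1.coprime_dvd_left (card_dvd_of_le inf_le_left),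
    fun d hd hdp => ⟨hc.mem_of_normalizes hH (hCN hd) hdp, hd⟩⟩

end Cx

end Cfsg.Agent.AbelPPrime
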