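import Cfsg.Agent.AbelPPrime.Count
import Cfsg.Agent.Char.Integral

/-!
Groups in which all `p'`-subgroups are abelian of exponent dividing `p - 1` are solvable.
-/

set_option autoImplicit false

namespace Cfsg.Agent.AbelPPrime

open Subgroup

universe u

variable {p : ℕ}

theorem solvable_small [hp : Fact p.Prime] {G : Type u} [Group G] [Finite G] (h : HP p G) (h5 : ¬ 5 ≤ p) :
    Group.IsSolvable G := by
  have hpr := hp.out
  have hp23 : p = 2 ∨ p = 3 := by
    have := hpr.two_le
    have h4 : p ≠ 4 := fun e => absurd (e ▸ hpr) (by decide)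
    omega
  refine Char.isSolvable_of_card_eq 2 3 Nat.prime_two Nat.prime_three _ G rfl ?_
  have key : ∀ q ∈ (Nat.card G).primeFactors, q = 2 ∨ q = 3 := by
    intro q hq
    have hqP := Nat.prime_of_mem_primeFactors hq
    by_cases hqp : q = p
    · omega
    have := Fact.mk hqP
    obtain ⟨b, hb⟩ := exists_prime_orderOf_dvd_card' q (Nat.dvd_of_mem_primeFactors hq)
    have h' := orderOf_dvd_pred h (g := b) (by rw [hb]; exact (Nat.coprime_primes hqP hpr).2 hqp)
    rw [hb] at h'
    have := Nat.le_of_dvd (by have := hpr.two_le; omega) h'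
    have := hqP.two_le
    omega
  refine ⟨(Nat.card G).factorization 2, (Nat.card G).factorization 3, ?_⟩
  apply Nat.eq_of_factorization_eq Nat.card_pos.ne' (by positivity)
  intro r
  rw [Nat.factorization_mul (by positivity) (by positivity), Nat.prime_two.factorization_pow,
    Nat.prime_three.factorization_pow, Finsupp.add_apply, Finsupp.single_apply, Finsupp.single_apply]
  by_cases hr : r ∈ (Nat.card G).primeFactors
  · rcases key r hr with rfl | rfl <;> simp
  · rw [← Nat.support_factorization, Finsupp.notMem_support_iff] at hr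
    split_ifs with h2 h3 <;> simp_all

theorem isSolvable_of_HP [hp : Fact p.Prime] : ∀ (n : ℕ) (G : Type u) [Group G] [Finite G],
    Nat.card G = n → HP p G → Group.IsSolvable G := by
  intro n
  induction n using Nat.strong_induction_on with
  | _ n ih =>
    intro G _ _ hn h
    by_cases h5 : ¬ 5 ≤ p
    · exact solvable_small h h5
    rw [not_not] at h5
    by_cases hcm : ∀ a b : G, a * b = b * a
    · exact Group.isSolvable_of_comm hcm
    have hsub : ∀ K : Subgroup G, K ≠ ⊤ → Group.IsSolvable K := fun K hK =>
      ih _ (hn ▸ lt_of_le_of_ne (card_le_card_group K) fun e => hK (eq_top_of_card_eq K e))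
        K rfl (h.sub K)
    by_cases hs : IsSimpleGroup G
    · exact (Cx.false (p := p) (G := G) ⟨h, h5, hs, hcm, hsub⟩).elim
    obtain ⟨N, hN, hN0, hN1⟩ : ∃ N : Subgroup G, N.Normal ∧ N ≠ ⊥ ∧ N ≠ ⊤ := by
      by_contra hne
      push Not at hne
      have : Nontrivial G := by
        by_contra hnt
        rw [not_nontrivial_iff_subsingleton] at hnt
        exact hcm fun a b => Subsingleton.elim _ _
      exact hs ⟨fun N hN => or_iff_not_imp_left.2 fun h0 => hne N hN h0⟩
    have := hsub N hN1
    have hq : Group.IsSolvable (G ⧸ N) := by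
      refine ih _ ?_ _ rfl (h.quot N)
      rw [← hn, ← index_eq_card, ← N.card_mul_index]
      exact lt_mul_of_one_lt_left (Nat.pos_of_ne_zero N.index_ne_zero_of_finite)
        ((one_lt_card_iff_ne_bot N).2 hN0)
    exact Group.isSolvable_of_ker_le_range N.subtype (QuotientGroup.mk' N) (by simp)

end Cfsg.Agent.AbelPPrime
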