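import Cfsg.Agent.AbelPPrime.Basic
import Cfsg.Agent.QdFree.ZJControlStable
import Cfsg.Agent.QdFree.Consequences
import Cfsg.Agent.QdFree.SL2Facts
import Cfsg.Agent.Fusion.ZJConstrained
import Cfsg.Agent.Fusion.Transfer
import Cfsg.Agent.Layer.PConstraint

/-!
Stability and the ZJ-theorem in the presence of abelian `p'`-subgroups.
-/

set_option autoImplicit false

namespace Cfsg.Agent.AbelPPrime

open Subgroup

universe u

variable {p : ℕ} {X : Type u} [Group X] [Finite X] [hp : Fact p.Prime]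

theorem stable_of_HP (h2 : p ≠ 2) (h : HP p X) : Cfsg.IsNormalizerPStable p X := by
  refine QdFree.isNormalizerPStable_of_free h2 fun P _ _ hinv => ?_
  obtain ⟨T⟩ := (inferInstance : Nonempty (Sylow 2 (normalizer (P : Set X))))
  refine QdFree.not_comm_sylow_two h2 hinv T ((h.sub _) _ ?_).1
  have : Fact (Nat.Prime 2) := ⟨Nat.prime_two⟩
  obtain ⟨k, hk⟩ := IsPGroup.iff_card.1 T.2
  rw [hk]
  exact ((Nat.coprime_primes Nat.prime_two hp.out).2 (Ne.symm h2)).pow_left k

theorem sup_normalizer_zj [Group.IsSolvable X] (h2 : p ≠ 2) (h : HP p X) (P : Sylow p X) :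
    Cfsg.pPrimeCore p X ⊔ normalizer (Fusion.zInter 0 (P : Subgroup X) : Set X) = ⊤ := by
  set N := Cfsg.pPrimeCore p X with hN
  set f := QuotientGroup.mk' N with hf
  have hfs : Function.Surjective f := QuotientGroup.mk'_surjective N
  have hker : f.ker = N := QuotientGroup.ker_mk' N
  have hnZ := Fusion.normal_zInter h2 (Or.inl rfl : (0 : ℕ) = 0 ∨ Odd 0)
    (Fusion.pStableNormal_of_isNormalizerPStable (stable_of_HP h2 (h.quot N)))
    (Fusion.isStronglyClosed_self (P.mapSurjective hfs))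
    (Layer.isPConstrained_iff_selfCentral.mp Layer.isPConstrained_of_isSolvable) (e := 0)
  rw [Sylow.coe_mapSurjective, ← Fusion.zInter_map_of_inf_ker f
    (by rw [hker]; exact OddLocal.inf_pPrimeCore_eq_bot P.2)] at hnZ
  have h2' := Layer.map_normalizer_of_coprime hfs (by rw [hker]; exact Core.coprime_card_pPrimeCore)
    (P.2.to_le (Fusion.zInter_le 0 (P : Subgroup X)))
  rw [normalizer_eq_top_iff.mpr hnZ] at h2'
  have := congrArg (comap f) h2'
  rwa [comap_map_eq, hker, comap_top, sup_comm] at this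

theorem fusion_zj (h2 : p ≠ 2) (h : HP p X) (S : Sylow p X) {x : X} (hx : x ∈ (S : Subgroup X))
    {g : X} (hg : g * x * g⁻¹ ∈ (S : Subgroup X)) :
    ∃ t ∈ normalizer (Fusion.zInter 0 (S : Subgroup X) : Set X), t * x * t⁻¹ = g * x * g⁻¹ := by
  obtain ⟨-, hctl⟩ := QdFree.ZJControl.controls_stable h2 (e := 0) (Or.inl rfl) (dvd_zero p)
    (stable_of_HP h2 h) S (Fusion.isStronglyClosed_self S) {x} (Set.singleton_subset_iff.2 hx)
  obtain ⟨t, ht, he⟩ := hctl g (by rintro _ ⟨y, rfl, rfl⟩; exact hg)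
  exact ⟨t, ht, (he x rfl).symm⟩

/-- A Sylow subgroup inside the derived group of a solvable group with abelian `p'`-subgroups is normal. -/
theorem sylow_eq_pCore_of_le_commutator [Group.IsSolvable X] (h : HP p X) (P : Sylow p X)
    (hP : (P : Subgroup X) ≤ commutator X) : (P : Subgroup X) = Cfsg.pCore p X := by
  obtain ⟨B, hB, -⟩ := exists_hallIn (p := p) (K := (⊤ : Subgroup X)) (U := ⊥) inferInstance bot_le (by simp)
  haveI := pCore_sup_normal h hB
  set L := Cfsg.pCore p X ⊔ B
  set f := QuotientGroup.mk' L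
  obtain ⟨k, hk⟩ := hB.2.2
  rw [relIndex_top_right] at hk
  obtain ⟨j, -, hj⟩ := (Nat.dvd_prime_pow hp.out).1
    (hk ▸ index_dvd_of_le (le_sup_right : B ≤ L))
  have hQ : IsPGroup p (X ⧸ L) := IsPGroup.of_card (n := j) (by rw [← index_eq_card, hj])
  have hL : L = ⊤ := by
    by_contra hne
    have htop : (P : Subgroup X).map f = ⊤ := by
      apply eq_top_of_card_eq
      have hd := index_map_dvd (P : Subgroup X) (f := f) (QuotientGroup.mk'_surjective L)
      have h1 : ((P : Subgroup X).map f).index = 1 := by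
        obtain ⟨i, -, hi⟩ := (Nat.dvd_prime_pow hp.out).1
          (show ((P : Subgroup X).map f).index ∣ p ^ j by
            rw [← hj, index_eq_card L]; exact index_dvd_card _)
        rcases Nat.eq_zero_or_pos i with rfl | hi0
        · simpa using hi
        · exact absurd ((dvd_pow_self p hi0.ne').trans (hi ▸ hd)) P.not_dvd_index
      rw [← ((P : Subgroup X).map f).card_mul_index, h1, mul_one]
    have hperf : (⊤ : Subgroup (X ⧸ L)) ≤ ⁅(⊤ : Subgroup (X ⧸ L)), ⊤⁆ := by
      rw [← htop]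
      refine (map_mono hP).trans ?_
      rw [commutator_def, map_commutator, htop]
      exact commutator_mono le_top le_top
    have hne' : (⊤ : Subgroup (X ⧸ L)) ≠ ⊥ := by
      intro e
      refine hne (eq_top_iff.2 fun x _ => ?_)
      have : f x ∈ (⊥ : Subgroup (X ⧸ L)) := e ▸ mem_top _
      exact (QuotientGroup.eq_one_iff x).1 (Subgroup.mem_bot.1 this)
    exact (Fusion.isPGroup_commutator_lt (hQ.to_subgroup ⊤) hne').not_ge hperf
  symm
  refine eq_of_le_of_card_ge (Core.pCore_le_sylow P) (Nat.le_of_dvd Nat.card_pos ?_)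
  have hd : Nat.card X ∣ Nat.card B * Nat.card (Cfsg.pCore p X) := by
    have h' := Core.card_sup_dvd_of_le_normalizer
      (X := Cfsg.pCore p X) (C := B) (by rw [normalizer_eq_top]; exact le_top)
    rw [show Cfsg.pCore p X ⊔ B = ⊤ from hL, Subgroup.card_top, mul_comm] at h'
    exact h'
  obtain ⟨n, hn⟩ := IsPGroup.iff_card.1 P.2
  refine Nat.Coprime.dvd_of_dvd_mul_left ?_ ((card_subgroup_dvd_card _).trans hd)
  rw [hn]
  exact (hB.2.1.pow_right n).symm

end Cfsg.Agent.AbelPPrime
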