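import Cfsg.Agent.AbelPPrime.Setting
import Cfsg.Agent.AbelPPrime.ZJ
import Cfsg.Agent.QdFree.Inversion

/-!
A maximal `p'`-subgroup of the minimal counterexample contains the centralisers of its elements in its
normalizer.
-/

set_option autoImplicit false

namespace Cfsg.Agent.AbelPPrime

open Subgroup
open scoped Pointwise commutatorElement

universe u

variable {p : ℕ} {G : Type u} [Group G] [Finite G] [hp : Fact p.Prime]

/-- An `H`-invariant `p`-subgroup. -/
def Inv (p : ℕ) {G : Type u} [Group G] (H T : Subgroup G) : Prop :=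
  IsPGroup p T ∧ H ≤ normalizer (T : Set G)

theorem pCoreOf_inv (K H : Subgroup G) (hHK : H ≤ K) : Inv p H (Cfsg.pCoreOf p K) := by
  refine ⟨Core.pCore_isPGroup.map _, fun h hh => mem_normalizer_fintype ?_⟩
  rintro _ ⟨x, hx, rfl⟩
  exact ⟨⟨h, hHK hh⟩ * x * ⟨h, hHK hh⟩⁻¹,
    (Core.pCore_normal (p := p) (G := K)).conj_mem x hx _, rfl⟩

theorem inf_lt_of_normalizer {P D : Subgroup G} (hP : IsPGroup p P) (hlt : D < P) :
    D < P ⊓ normalizer (D : Set G) := by
  have := hP.isNilpotent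
  have h1 : D.subgroupOf P < ⊤ := lt_top_iff_ne_top.2 fun e =>
    hlt.not_ge (subgroupOf_eq_top.1 e)
  have h2 := normalizerCondition_of_isNilpotent (G := P) _ h1
  rw [← subgroupOf_normalizer_eq hlt.le] at h2
  refine lt_of_le_of_ne (le_inf hlt.le le_normalizer) fun e => h2.ne ?_
  ext x
  exact ⟨fun hx => le_normalizer hx, fun hx => by
    rw [mem_subgroupOf]; exact e.symm ▸ (⟨x.2, hx⟩ : (x : G) ∈ P ⊓ normalizer (D : Set G))⟩

theorem isPGroup_card_conj {T : Subgroup G} (hT : IsPGroup p T) (g : G) :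
    IsPGroup p (MulAut.conj g • T : Subgroup G) := by
  rw [Coprime.conj_smul_eq_map]; exact hT.map _

namespace Cx

variable {H : Subgroup G}

theorem exists_fixed_pair (hc : Cx p G) (hH : MaxPP p H) {T : Subgroup G} (hT : Inv p H T)
    (hT1 : T ≠ ⊥) {q : ℕ} (hq : q.Prime) {E : Subgroup G} (hEH : E ≤ H)
    (hEq : ∀ e ∈ E, e ^ q = 1) (hE : Nat.card E = q ^ 3) :
    ∃ B : Subgroup G, B ≤ E ∧ q ^ 2 ≤ Nat.card B ∧ T ⊓ centralizer (B : Set G) ≠ ⊥ := by
  have hqF := Fact.mk hq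
  have hcop : ∀ {U V : Subgroup G}, U ≤ H → V ≤ T → (Nat.card U).Coprime (Nat.card V) := by
    intro U V hU hV
    obtain ⟨k, hk⟩ := IsPGroup.iff_card.1 hT.1
    refine (Nat.Coprime.coprime_dvd_right (card_dvd_of_le hV) ?_).coprime_dvd_left (card_dvd_of_le hU)
    rw [hk]; exact hH.1.pow_right k
  have hEc : IsMulCommutative E :=
    ⟨⟨fun a b => Subtype.ext (hc.hpp.comm hH.1 (hEH a.2) (hEH b.2))⟩⟩
  have hzp : ∀ e ∈ E, Nat.card (zpowers e) ∣ q := fun e he => by
    rw [Nat.card_zpowers]; exact orderOf_dvd_of_pow_eq_one (hEq e he)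
  have hnc : ¬ IsCyclic E := by
    intro hcy
    obtain ⟨g, hg⟩ := IsCyclic.exists_generator (α := E)
    have h1 := orderOf_eq_card_of_forall_mem_zpowers hg
    have h2 : orderOf g ∣ q := orderOf_dvd_of_pow_eq_one (Subtype.ext (by simpa using hEq g g.2))
    have h3 := Nat.le_of_dvd hq.pos (h1 ▸ h2 : Nat.card E ∣ q)
    rw [hE] at h3
    nlinarith [hq.two_le, Nat.mul_le_mul hq.two_le hq.two_le]
  obtain ⟨e, he, he1, hTe⟩ : ∃ e ∈ E, e ≠ 1 ∧ T ⊓ centralizer ({e} : Set G) ≠ ⊥ := by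
    by_contra h
    push Not at h
    refine hT1 (le_bot_iff.1 ?_)
    rw [← Coprime.iSup_centralizer_eq hnc (hEH.trans hT.2) (hcop hEH le_rfl)]
    exact iSup₂_le fun a ha => (h a ha.1 ha.2).le
  set T₁ := T ⊓ centralizer ({e} : Set G) with hT₁
  have hET₁ : E ≤ normalizer (T₁ : Set G) := fun a ha => mem_normalizer_fintype fun t ht =>
    ⟨(mem_normalizer_iff.1 (hT.2 (hEH ha)) t).1 ht.1, by
      show a * t * a⁻¹ ∈ centralizer ({e} : Set G)
      rw [mem_centralizer_singleton_iff]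
      have h1 : Commute a e := hc.hpp.comm hH.1 (hEH ha) (hEH he)
      have h2 : Commute t e := mem_centralizer_singleton_iff.1 ht.2
      exact ((h1.mul_left h2).mul_left h1.inv_left).eq⟩
  obtain ⟨a, ha, hae⟩ := SetLike.exists_of_lt (lt_of_le_of_ne (zpowers_le.2 he) (fun h => hnc (h ▸ inferInstance)))
  have hle : zpowers e ⊔ zpowers a < E := by
    refine lt_of_le_of_ne (sup_le (zpowers_le.2 he) (zpowers_le.2 ha)) fun h => ?_
    have hd : Nat.card E ∣ q * q := by
      rw [← h]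
      refine (Core.card_sup_dvd_of_le_normalizer ?_).trans (Nat.mul_dvd_mul (hzp e he) (hzp a ha))
      exact (zpowers_le.2 ha).trans ((le_centralizer_iff.1 (zpowers_le.2 he |>.trans
        (le_centralizer_iff_isMulCommutative.2 hEc))).trans (centralizer_le_normalizer _))
    rw [hE] at hd
    have := Nat.le_of_dvd (Nat.mul_pos hq.pos hq.pos) hd
    nlinarith [hq.two_le, Nat.mul_pos hq.pos hq.pos]
  obtain ⟨b, hb, hbn⟩ := SetLike.exists_of_lt hle
  obtain ⟨f, hf, hfe, hTf⟩ : ∃ f ∈ E, f ∉ zpowers e ∧ T₁ ⊓ centralizer ({f} : Set G) ≠ ⊥ := by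
    by_contra h
    push Not at h
    refine hTe (le_bot_iff.1 ?_)
    refine Coprime.le_of_centralizers_le (a := a) (b := b) (r := q)
      (hc.hpp.comm hH.1 (hEH ha) (hEH hb)) (hET₁ ha) (hET₁ hb) hq
      (by rw [hEq a ha]; exact one_mem _) (by rw [hEq b hb]; exact one_mem _) ?_
      (hcop ((closure_le _).2 (by rintro x (rfl | rfl); exacts [hEH ha, hEH hb])) inf_le_left)
      (h a ha hae).le (fun k => (h _ (mul_mem (pow_mem ha k) hb) fun hmem => hbn ?_).le)
    · refine Nat.Coprime.coprime_dvd_left ?_ (hcop (zpowers_le.2 (hEH ha)) inf_le_left)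
      rw [Nat.card_zpowers, orderOf_eq_prime (hEq a ha) (fun e' => hae (e' ▸ one_mem _))]
    · have h' := mul_mem (inv_mem (pow_mem (mem_sup_right (mem_zpowers a) : a ∈ zpowers e ⊔ zpowers a) k))
        (mem_sup_left hmem : a ^ k * b ∈ zpowers e ⊔ zpowers a)
      simpa using h'
  refine ⟨zpowers e ⊔ zpowers f, sup_le (zpowers_le.2 he) (zpowers_le.2 hf), ?_, fun hbot => hTf ?_⟩
  · have hlt : Nat.card (zpowers e) < Nat.card (zpowers e ⊔ zpowers f : Subgroup G) :=
      Set.Finite.card_lt_card (Set.toFinite _) (SetLike.coe_ssubset_coe.2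
        (lt_of_le_of_ne le_sup_left fun h => hfe (h.symm ▸ mem_sup_right (mem_zpowers f))))
    rw [Nat.card_zpowers, orderOf_eq_prime (hEq e he) he1] at hlt
    obtain ⟨j, -, hj⟩ := (Nat.dvd_prime_pow hq).1 (hE ▸ card_dvd_of_le
      (sup_le (zpowers_le.2 he) (zpowers_le.2 hf) : zpowers e ⊔ zpowers f ≤ E))
    rw [hj] at hlt ⊢
    refine Nat.pow_le_pow_right hq.pos ?_
    by_contra hj2
    have : q ^ j ≤ q ^ 1 := Nat.pow_le_pow_right hq.pos (by omega)
    rw [pow_one] at this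
    omega
  · refine le_bot_iff.1 ?_
    rw [← hbot]
    refine le_inf (inf_le_left.trans inf_le_left) ?_
    rw [le_centralizer_iff]
    refine sup_le (zpowers_le.2 ?_) (zpowers_le.2 ?_) <;> rw [mem_centralizer_iff] <;> intro t ht
    · exact mem_centralizer_singleton_iff.1 ht.1.2
    · exact mem_centralizer_singleton_iff.1 ht.2

theorem exists_common_fixed (hc : Cx p G) (hH : MaxPP p H) (hne : H ≠ ⊥) {T T' : Subgroup G}
    (hT : Inv p H T) (hT1 : T ≠ ⊥) (hT' : Inv p H T') (hT1' : T' ≠ ⊥) :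
    ∃ e ∈ H, e ≠ 1 ∧ T ⊓ centralizer ({e} : Set G) ≠ ⊥ ∧ T' ⊓ centralizer ({e} : Set G) ≠ ⊥ := by
  obtain ⟨q, E, hq, hEH, hEq, hE⟩ := hc.exists_elementary hH hne
  obtain ⟨B, hBE, hBc, hTB⟩ := hc.exists_fixed_pair hH hT hT1 hq hEH hEq hE
  obtain ⟨B', hBE', hBc', hTB'⟩ := hc.exists_fixed_pair hH hT' hT1' hq hEH hEq hE
  have hint : B ⊓ B' ≠ ⊥ := by
    intro h0
    have hnorm : B' ≤ normalizer (B : Set G) := fun b hb => mem_normalizer_fintype fun x hx => by
      rw [show b * x * b⁻¹ = x by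
        rw [hc.hpp.comm hH.1 (hEH (hBE' hb)) (hEH (hBE hx)), mul_inv_cancel_right]]
      exact hx
    have h1 := Coprime.card_sup_eq_mul hnorm h0
    have h2 := Nat.le_of_dvd Nat.card_pos (card_dvd_of_le (sup_le hBE hBE'))
    rw [h1, hE] at h2
    have := Nat.mul_le_mul hBc hBc'
    nlinarith [hq.two_le, Nat.pow_pos (n := 3) hq.pos]
  obtain ⟨e, he, he1⟩ := (Subgroup.bot_or_exists_ne_one _).resolve_left hint
  refine ⟨e, hEH (hBE he.1), he1, fun h0 => hTB ?_, fun h0 => hTB' ?_⟩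
  · exact le_bot_iff.1 (h0 ▸ inf_le_inf_left _ (centralizer_le (Set.singleton_subset_iff.2 he.1)))
  · exact le_bot_iff.1 (h0 ▸ inf_le_inf_left _ (centralizer_le (Set.singleton_subset_iff.2 he.2)))

/-- There is a unique maximal invariant `p`-subgroup. -/
theorem exists_max_inv (hc : Cx p G) (hH : MaxPP p H) (hne : H ≠ ⊥) :
    ∃ X, Inv p H X ∧ ∀ T, Inv p H T → T ≤ X := by
  have hex : ∀ T, Inv p H T → ∃ X, Inv p H X ∧ (∀ Y, Inv p H Y → X ≤ Y → Y = X) ∧ T ≤ X := by
    intro T hT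
    obtain ⟨X, hX, hmax⟩ := WellFounded.has_min wellFounded_gt
      {Y : Subgroup G | Inv p H Y ∧ T ≤ Y} ⟨T, hT, le_rfl⟩
    refine ⟨X, hX.1, fun Y hY hle => ?_, hX.2⟩
    by_contra hne'
    exact hmax Y ⟨hY, hX.2.trans hle⟩ (lt_of_le_of_ne hle (Ne.symm hne'))
  suffices huniq : ∀ (n : ℕ) (P₁ P₂ : Subgroup G), Inv p H P₁ → Inv p H P₂ →
      (∀ Y, Inv p H Y → P₁ ≤ Y → Y = P₁) → (∀ Y, Inv p H Y → P₂ ≤ Y → Y = P₂) →
      Nat.card G ≤ Nat.card (P₁ ⊓ P₂ : Subgroup G) + n → P₁ = P₂ by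
    obtain ⟨X, hX, hXm, -⟩ := hex ⊥ ⟨IsPGroup.of_bot, by rw [normalizer_eq_top]; exact le_top⟩
    refine ⟨X, hX, fun T hT => ?_⟩
    obtain ⟨Y, hY, hYm, hTY⟩ := hex T hT
    exact hTY.trans (huniq _ Y X hY hX hYm hXm (Nat.le_add_left _ _)).le
  intro n
  induction n with
  | zero =>
    intro P₁ P₂ _ _ _ _ hcard
    have : P₁ ⊓ P₂ = ⊤ := eq_top_of_card_eq _ (le_antisymm (card_le_card_group _) hcard)
    rw [inf_eq_top_iff] at this
    rw [this.1, this.2]
  | succ n ih =>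
    intro P₁ P₂ h1 h2 m1 m2 hcard
    by_contra hne'
    set D := P₁ ⊓ P₂ with hD
    have hD1 : D < P₁ := lt_of_le_of_ne inf_le_left fun e => hne' ((m1 P₂ h2 (e ▸ inf_le_right)).symm)
    have hD2 : D < P₂ := lt_of_le_of_ne inf_le_right fun e => hne' (m2 P₁ h1 (e ▸ inf_le_left))
    obtain ⟨K, hK, hHK, hK1, hK2⟩ : ∃ K : Subgroup G, Group.IsSolvable K ∧ H ≤ K ∧
        D < P₁ ⊓ K ∧ D < P₂ ⊓ K := by
      by_cases h0 : D = ⊥
      · have hP1 : P₁ ≠ ⊥ := fun e => hD1.ne (by rw [h0, e])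
        have hP2 : P₂ ≠ ⊥ := fun e => hD2.ne (by rw [h0, e])
        obtain ⟨e, he, he1, hc1, hc2⟩ := hc.exists_common_fixed hH hne h1 hP1 h2 hP2
        exact ⟨_, hc.solv_centralizer he1, hc.le_centralizer hH he,
          h0 ▸ bot_lt_iff_ne_bot.2 hc1, h0 ▸ bot_lt_iff_ne_bot.2 hc2⟩
      · refine ⟨normalizer (D : Set G), hc.solv _ (hc.normalizer_ne_top h0 fun e => ?_), ?_,
          inf_lt_of_normalizer h1.1 hD1, inf_lt_of_normalizer h2.1 hD2⟩
        · exact hD1.not_ge (e ▸ le_top)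
        · exact fun h hh => mem_normalizer_fintype fun x hx =>
            ⟨(mem_normalizer_iff.1 (h1.2 hh) x).1 hx.1, (mem_normalizer_iff.1 (h2.2 hh) x).1 hx.2⟩
    obtain ⟨P₃, h3, m3, hle3⟩ := hex _ (pCoreOf_inv K H hHK)
    have hin : ∀ P, Inv p H P → D < P ⊓ K → D < P ⊓ P₃ := fun P hP hlt =>
      hlt.trans_le (le_inf inf_le_left ((le_pCoreOf_of_normalized hc.hpp hK (hH.hallIn hK hHK)
        inf_le_right (hP.1.to_le inf_le_left)
        (fun h hh => mem_normalizer_fintype fun x hx => ⟨(mem_normalizer_iff.1 (hP.2 hh) x).1 hx.1,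
          K.mul_mem (K.mul_mem (hHK hh) hx.2) (K.inv_mem (hHK hh))⟩)).trans hle3))
    have hbig : ∀ P, Inv p H P → (∀ Y, Inv p H Y → P ≤ Y → Y = P) → D < P ⊓ K → P = P₃ := by
      intro P hP mP hlt
      refine ih P P₃ hP h3 mP m3 ?_
      have : Nat.card D < Nat.card (P ⊓ P₃ : Subgroup G) :=
        Set.Finite.card_lt_card (Set.toFinite _) (SetLike.coe_ssubset_coe.2 (hin P hP hlt))
      omega
    exact hne' ((hbig P₁ h1 m1 hK1).trans (hbig P₂ h2 m2 hK2).symm)

end Cx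

/-- The data attached to a maximal `p'`-subgroup. -/
structure Top (p : ℕ) {G : Type u} [Group G] (H X M : Subgroup G) : Prop where
  inv : Inv p H X
  max : ∀ T, Inv p H T → T ≤ X
  coatom : IsCoatom M
  nH : normalizer (H : Set G) ≤ M
  xM : X ≤ M

namespace Cx

variable {H X M : Subgroup G}

theorem exists_top (hc : Cx p G) (hH : MaxPP p H) (hne : H ≠ ⊥) :
    ∃ X M, Top p H X M := by
  obtain ⟨X, hX, hmax⟩ := hc.exists_max_inv hH hne
  have hNX : normalizer (H : Set G) ≤ normalizer (X : Set G) := by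
    intro n hn
    refine mem_normalizer_iff_map_conj_eq.2 (eq_of_le_of_card_ge (hmax _ ⟨hX.1.map _, ?_⟩) ?_)
    · intro h hh
      refine mem_normalizer_fintype ?_
      rintro _ ⟨x, hx, rfl⟩
      have hh' := (mem_normalizer_iff.1 (inv_mem hn) h).1 hh
      refine ⟨n⁻¹ * h * n⁻¹⁻¹ * x * (n⁻¹ * h * n⁻¹⁻¹)⁻¹, (mem_normalizer_iff.1 (hX.2 hh') x).1 hx, ?_⟩
      show n * _ * n⁻¹ = h * (n * x * n⁻¹) * h⁻¹
      group
    · rw [Nat.card_congr (equivMapOfInjective _ _ (MulAut.conj n).injective).symm.toEquiv]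
  have hsup : normalizer (H : Set G) ⊔ X ≠ ⊤ := by
    by_cases hX0 : X = ⊥
    · rw [hX0, sup_bot_eq]
      exact hc.normalizer_ne_top hne (hc.ne_top_of_coprime hH.1)
    · intro h
      refine hc.normalizer_ne_top hX0 (fun e => hc.not_isPGroup_top ?_) (top_le_iff.1 (h ▸ sup_le hNX le_normalizer))
      exact (e ▸ hX.1).of_equiv Subgroup.topEquiv
  obtain ⟨M, hM, hle⟩ := (eq_top_or_exists_le_coatom (normalizer (H : Set G) ⊔ X)).resolve_left hsup
  exact ⟨X, M, hX, hmax, hM, le_sup_left.trans hle, le_sup_right.trans hle⟩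

theorem centralizer_le_top (hc : Cx p G) (hH : MaxPP p H) (ht : Top p H X M) {b : G} (hb : b ∈ H)
    (hb1 : b ≠ 1) : centralizer ({b} : Set G) ≤ M :=
  le_of_pCoreOf_and_normalizer hc.hpp (hc.solv_centralizer hb1)
    (hH.hallIn (hc.solv_centralizer hb1) (hc.le_centralizer hH hb))
    ((ht.max _ (pCoreOf_inv _ H (hc.le_centralizer hH hb))).trans ht.xM)
    (inf_le_right.trans ht.nH)

/-- A solvable subgroup meeting `H` in a noncyclic group lies in `M`. -/
theorem le_top_of_noncyclic (hc : Cx p G) (hH : MaxPP p H) (ht : Top p H X M) {K U : Subgroup G}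
    (hK : Group.IsSolvable K) (hUH : U ≤ H) (hUK : U ≤ K) (hU : ¬ IsCyclic U) : K ≤ M := by
  have hUc : (Nat.card U).Coprime p := hH.1.coprime_dvd_left (card_dvd_of_le hUH)
  obtain ⟨B, hB, hUB⟩ := exists_hallIn hK hUK hUc
  refine le_of_pCoreOf_and_normalizer hc.hpp hK hB ?_ ?_
  · have : IsMulCommutative U :=
      ⟨⟨fun a b => Subtype.ext (hc.hpp.comm hH.1 (hUH a.2) (hUH b.2))⟩⟩
    obtain ⟨hp', hn⟩ := pCoreOf_inv (p := p) K U hUK
    have hcop : (Nat.card U).Coprime (Nat.card (Cfsg.pCoreOf p K)) := by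
      obtain ⟨k, hk⟩ := IsPGroup.iff_card.1 hp'
      rw [hk]; exact hUc.pow_right k
    rw [← Coprime.iSup_centralizer_eq hU hn hcop]
    exact iSup₂_le fun a ha => inf_le_right.trans (hc.centralizer_le_top hH ht (hUH ha.1) ha.2)
  · intro n hn
    have hU1 : U ≠ ⊥ := fun e => hU (e ▸ inferInstance)
    obtain ⟨u, hu, hu1⟩ := (Subgroup.bot_or_exists_ne_one _).resolve_left hU1
    obtain ⟨H', hH', hBH'⟩ := exists_maxPP hB.2.1
    obtain ⟨c, hcu, hceq⟩ := hc.exists_conj_of_mem hH hH' hu1 (hUH hu) (hBH' (hUB hu))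
    have hb : n * u * n⁻¹ ∈ MulAut.conj c • H := hceq ▸ hBH' ((mem_normalizer_iff.1 hn.2 u).1 (hUB hu))
    rw [mem_pointwise_smul_iff_inv_smul_mem, ← map_inv] at hb
    have hb' : c⁻¹ * (n * u * n⁻¹) * c ∈ H := by
      rw [MulAut.smul_def, MulAut.conj_apply, inv_inv] at hb; exact hb
    have hb'' : (c⁻¹ * n) * u * (c⁻¹ * n)⁻¹ ∈ H := by
      rw [show (c⁻¹ * n) * u * (c⁻¹ * n)⁻¹ = c⁻¹ * (n * u * n⁻¹) * c by group]; exact hb'
    obtain ⟨m, hm, hme⟩ := hc.fusion hH (hUH hu) hb''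
    have hcent : m⁻¹ * (c⁻¹ * n) ∈ centralizer ({u} : Set G) := by
      rw [mem_centralizer_singleton_iff, ← mul_inv_eq_iff_eq_mul]
      calc m⁻¹ * (c⁻¹ * n) * u * (m⁻¹ * (c⁻¹ * n))⁻¹ = m⁻¹ * ((c⁻¹ * n) * u * (c⁻¹ * n)⁻¹) * m := by group
        _ = m⁻¹ * (m * u * m⁻¹) * m := by rw [hme]
        _ = u := by group
    have := M.mul_mem (hc.centralizer_le_top hH ht (hUH hu) hu1 hcu)
      (M.mul_mem (ht.nH hm) (hc.centralizer_le_top hH ht (hUH hu) hu1 hcent))
    simpa using this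

theorem exists_pElement (hc : Cx p G) (hH : MaxPP p H) (hne : H ≠ ⊥) :
    ∃ x ∈ normalizer (H : Set G), IsPGroup p (zpowers x) ∧ ∃ b ∈ H, x * b ≠ b * x := by
  obtain ⟨b, hb, hb1⟩ := (Subgroup.bot_or_exists_ne_one _).resolve_left hne
  obtain ⟨x, hx, hxp, hxb⟩ := hc.exists_moving hH hb hb1
  exact ⟨x, hx, hxp, b, hb, hxb⟩

theorem commutator_eq_top (hc : Cx p G) : commutator G = ⊤ := by
  have := hc.simple
  rcases IsSimpleGroup.eq_bot_or_eq_top_of_normal (commutator G) inferInstance with h | h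
  · exfalso
    refine hc.nonab fun a b => ?_
    have hm : ⁅a, b⁆ ∈ commutator G := commutator_mem_commutator (mem_top a) (mem_top b)
    rw [h, Subgroup.mem_bot, commutatorElement_eq_one_iff_mul_comm] at hm
    exact hm
  · exact h

theorem two_ne (hc : Cx p G) : p ≠ 2 := by
  have := hc.five; omega

/-- A maximal subgroup containing `N(Z(J(P)))` has `P` as a normal subgroup. -/
theorem sylow_normal_of_zj (hc : Cx p G) (P : Sylow p G) {K : Subgroup G} (hK : Group.IsSolvable K)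
    (hPK : (P : Subgroup G) ≤ K)
    (hN : normalizer (Fusion.zInter 0 (P : Subgroup G) : Set G) ≤ K) :
    K ≤ normalizer ((P : Subgroup G) : Set G) ∧ (P : Subgroup G) ≤ ⁅K, K⁆ := by
  have hfoc := Fusion.commutator_inf_eq_of_controls P K hPK fun x hx g hg => by
    obtain ⟨t, ht, he⟩ := fusion_zj hc.two_ne hc.hpp P hx hg
    exact ⟨t, hN ht, he⟩
  rw [hc.commutator_eq_top, top_inf_eq] at hfoc
  have hPK' : (P : Subgroup G) ≤ ⁅K, K⁆ := hfoc.le.trans inf_le_left
  refine ⟨?_, hPK'⟩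
  have hle : ((P.subtype hPK : Sylow p K) : Subgroup K) ≤ commutator K := by
    intro x hx
    have hx' : (x : G) ∈ (commutator K).map K.subtype := by
      rw [map_subtype_commutator]
      exact hPK' (by simpa [Sylow.coe_subtype, mem_subgroupOf] using hx)
    obtain ⟨y, hy, he⟩ := hx'
    exact (K.subtype_injective he) ▸ hy
  have heq := sylow_eq_pCore_of_le_commutator (hc.hpp.sub K) (P.subtype hPK) hle
  have hmap : Cfsg.pCoreOf p K = P := by
    rw [Cfsg.pCoreOf, ← heq, Sylow.coe_subtype, map_subgroupOf_eq_of_le hPK]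
  exact hmap ▸ (pCoreOf_inv K K le_rfl).2

theorem coatom_solvable (hc : Cx p G) (ht : Top p H X M) : Group.IsSolvable M :=
  hc.solv M ht.coatom.1

theorem exists_sylow_data (hc : Cx p G) (hH : MaxPP p H) (hne : H ≠ ⊥) (ht : Top p H X M) :
    ∃ S : Sylow p M, (S : Subgroup M).map M.subtype ≠ ⊥ := by
  obtain ⟨S⟩ := (inferInstance : Nonempty (Sylow p M))
  refine ⟨S, fun e => ?_⟩
  obtain ⟨x, hx, hxp, b, -, hxb⟩ := hc.exists_pElement hH hne
  have hd : p ∣ Nat.card M := by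
    obtain ⟨k, hk⟩ := IsPGroup.iff_card.1 hxp
    have hk0 : k ≠ 0 := by
      rintro rfl
      rw [pow_zero, Subgroup.card_eq_one, zpowers_eq_bot] at hk
      exact hxb (by rw [hk, one_mul, mul_one])
    exact (dvd_pow_self p hk0).trans (hk ▸ card_dvd_of_le (zpowers_le.2 (ht.nH hx)))
  rw [map_eq_bot_iff_of_injective _ M.subtype_injective] at e
  exact S.ne_bot_of_dvd_card hd e

theorem top_le_normalizer (hc : Cx p G) (hH : MaxPP p H) (hne : H ≠ ⊥) (ht : Top p H X M) :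
    M ≤ normalizer (H : Set G) := by
  have hMs : Group.IsSolvable M := hc.coatom_solvable ht
  have hHM : H ≤ M := le_normalizer.trans ht.nH
  set A := (Cfsg.pPrimeCore p M).map M.subtype with hA
  have hAM : A ≤ M := map_subtype_le _
  have hAn : M ≤ normalizer (A : Set G) := fun m hm => mem_normalizer_fintype (by
    rintro _ ⟨a, ha, rfl⟩
    exact ⟨⟨m, hm⟩ * a * ⟨m, hm⟩⁻¹, (inferInstance : (Cfsg.pPrimeCore p M).Normal).conj_mem a ha _, rfl⟩)
  have hAc : (Nat.card A).Coprime p := by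
    rw [hA, Nat.card_congr (equivMapOfInjective _ _ M.subtype_injective).symm.toEquiv]
    exact Core.coprime_card_pPrimeCore
  have hAconj : ∀ c ∈ M, A ≤ MulAut.conj c • H := fun c hc' => by
    have hm := hH.conj c
    have hle : MulAut.conj c • H ≤ M := by
      rw [Coprime.conj_smul_eq_map]; rintro _ ⟨x, hx, rfl⟩
      exact M.mul_mem (M.mul_mem hc' (hHM hx)) (M.inv_mem hc')
    have := hm.2 (MulAut.conj c • H ⊔ A) (coprime_sup hm.1 hAc (hle.trans hAn)) le_sup_left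
    rw [← this]; exact le_sup_right
  have hAH : A ≤ H := by simpa using hAconj 1 (one_mem M)
  by_contra hcon
  have hAne : ¬ H ≤ A := fun h => hcon ((le_antisymm h hAH) ▸ hAn)
  obtain ⟨S, hS⟩ := hc.exists_sylow_data hH hne ht
  set P := (S : Subgroup M).map M.subtype with hP
  have hPM : P ≤ M := map_subtype_le _
  have hPp : IsPGroup p P := S.2.map _
  set W := Fusion.zInter 0 P with hW
  have hWne : W ≠ ⊥ := QdFree.zInter_ne_bot hPp hS
  have hWtop : W ≠ ⊤ := fun e => hc.not_isPGroup_top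
    ((e ▸ hPp.to_le (Fusion.zInter_le 0 P) : IsPGroup p (⊤ : Subgroup G)).of_equiv Subgroup.topEquiv)
  have hNWs : Group.IsSolvable (normalizer (W : Set G)) := hc.solv _ (hc.normalizer_ne_top hWne hWtop)
  have hWmap : (Fusion.zInter 0 (S : Subgroup M)).map M.subtype = W :=
    Fusion.zInter_map M.subtype_injective
  have hfrat : ∀ m ∈ M, ∃ a ∈ A, ∃ n ∈ M ⊓ normalizer (W : Set G), a * n = m := by
    intro m hm
    have hm' : (⟨m, hm⟩ : M) ∈ Cfsg.pPrimeCore p M ⊔
        normalizer (Fusion.zInter 0 (S : Subgroup M) : Set M) := by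
      rw [sup_normalizer_zj hc.two_ne (hc.hpp.sub M) S]; trivial
    obtain ⟨a, ha, n, hn, he⟩ := mem_sup_of_normal_left.1 hm'
    refine ⟨a, ⟨a, ha, rfl⟩, n, ⟨n.2, mem_normalizer_fintype ?_⟩, congrArg Subtype.val he⟩
    intro x hx
    rw [SetLike.mem_coe, ← hWmap] at hx ⊢
    obtain ⟨y, hy, rfl⟩ := hx
    exact ⟨n * y * n⁻¹, (mem_normalizer_iff.1 hn y).1 hy, rfl⟩
  set K₀ := M ⊓ normalizer (W : Set G) with hK₀
  have hK₀s : Group.IsSolvable K₀ := isSolvable_of_le inf_le_left hMs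
  obtain ⟨B, hB, -⟩ := exists_hallIn (p := p) hK₀s bot_le (U := ⊥) (by simp)
  obtain ⟨c, hcM, hBc⟩ := (hH.hallIn hMs hHM).exists_conj hMs (hB.1.trans inf_le_left) hB.2.1
  set H' := MulAut.conj c • H with hH'
  have hH'M : H' ≤ M := by
    rw [hH', Coprime.conj_smul_eq_map]; rintro _ ⟨x, hx, rfl⟩
    exact M.mul_mem (M.mul_mem hcM (hHM hx)) (M.inv_mem hcM)
  have hdec : ∀ h ∈ H', ∃ a ∈ A, ∃ b ∈ B, a * b = h := by
    intro h hh
    obtain ⟨a, ha, n, hn, rfl⟩ := hfrat h (hH'M hh)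
    refine ⟨a, ha, n, ?_, rfl⟩
    have hn' : n ∈ H' := by
      have := H'.mul_mem (H'.inv_mem (hAconj c hcM ha)) hh
      rwa [inv_mul_cancel_left] at this
    have := hB.eq_of_le (U := H' ⊓ K₀) (le_inf hBc hB.1) inf_le_right
      ((hH.conj c).1.coprime_dvd_left (card_dvd_of_le inf_le_left))
    rw [this]; exact ⟨hn', hn⟩
  have hBnc : ¬ IsCyclic B := by
    intro hcyc
    have hd : H' ≤ A := by
      refine hc.le_of_displacements (hH.conj c) fun n hn b hb => ?_
      have hnM : n ∈ M := by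
        have h1 : c⁻¹ * n * c ∈ normalizer (H : Set G) := by
          refine Coprime.mem_normalizer_of_conj_smul_eq ?_
          have h2 := Coprime.conj_smul_eq_self_of_mem_normalizer hn
          rw [map_mul, map_mul, mul_smul, mul_smul, ← hH', h2, map_inv, inv_smul_smul]
        have := M.mul_mem (M.mul_mem hcM (ht.nH h1)) (M.inv_mem hcM)
        simpa [mul_assoc] using this
      set f := QuotientGroup.mk' (Cfsg.pPrimeCore p M) with hf
      obtain ⟨x, y, rfl, -, hxn, hyn, hxp, hyp⟩ := exists_decomp (p := p) n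
      have hxN : x ∈ normalizer (H' : Set G) := zpowers_le.2 hn hxn
      have hyH : y ∈ H' := hc.mem_of_normalizes (hH.conj c) (zpowers_le.2 hn hyn) hyp
      have hxM : x ∈ M := zpowers_le.2 hnM hxn
      have hfH : ∀ h (hh : h ∈ H'), f ⟨h, hH'M hh⟩ ∈ (B.subgroupOf M).map f := by
        intro h hh
        obtain ⟨a, ha, b', hb', rfl⟩ := hdec h hh
        refine ⟨⟨b', (hB.1 hb').1⟩, hb', ?_⟩
        obtain ⟨a', ha', rfl⟩ := ha
        have h1 : f a' = 1 := (QuotientGroup.eq_one_iff a').2 ha'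
        rw [show (⟨M.subtype a' * b', hH'M hh⟩ : M) = a' * ⟨b', (hB.1 hb').1⟩ from rfl, map_mul, h1, one_mul]
      have hcycB : IsCyclic (B.subgroupOf M) :=
        isCyclic_of_surjective (subgroupOfEquivOfLe (hB.1.trans inf_le_left)).symm
          (MulEquiv.surjective _)
      have hcop : (Nat.card ((B.subgroupOf M).map f)).Coprime p := by
        refine Nat.Coprime.coprime_dvd_left (card_map_dvd _ _) ?_
        rw [Nat.card_congr (subgroupOfEquivOfLe (hB.1.trans inf_le_left)).toEquiv]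
        exact hB.2.1
      have hfx : f ⟨x, hxM⟩ ∈ normalizer ((B.subgroupOf M).map f : Set (M ⧸ Cfsg.pPrimeCore p M)) := by
        refine mem_normalizer_fintype ?_
        rintro _ ⟨⟨b', hb'M⟩, hb', rfl⟩
        rw [SetLike.mem_coe, ← map_inv, ← map_mul, ← map_mul]
        exact hfH _ ((mem_normalizer_iff.1 hxN b').1 (hBc hb'))
      have hxp' : IsPGroup p (zpowers (f ⟨x, hxM⟩)) := by
        rw [← MonoidHom.map_zpowers]
        obtain ⟨k, hk⟩ := IsPGroup.iff_card.1 hxp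
        refine IsPGroup.map ?_ f
        refine IsPGroup.of_card (n := k) ?_
        rw [Nat.card_zpowers, ← Subgroup.orderOf_coe, ← Nat.card_zpowers, hk]
      have hcycf : IsCyclic ((B.subgroupOf M).map f) :=
        isCyclic_of_surjective (f.subgroupMap _) (f.subgroupMap_surjective _)
      have hcomm := centralizes_of_cyclic ((hc.hpp.sub M).quot (Cfsg.pPrimeCore p M)) hcop
        inferInstance hfx hxp' (hfH b hb)
      rw [← commutatorElement_eq_one_iff_mul_comm, ← map_commutatorElement] at hcomm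
      have hmem := (QuotientGroup.eq_one_iff _).1 hcomm
      refine ⟨_, hmem, ?_⟩
      show x * b * x⁻¹ * b⁻¹ = x * y * b * (x * y)⁻¹ * b⁻¹
      rw [mul_inv_rev, mul_assoc x y b, hc.hpp.comm (hH.conj c).1 hyH hb]
      group
    refine hAne fun h hh => ?_
    have h1 := hd (smul_mem_pointwise_smul h (MulAut.conj c) H hh)
    have h2 := (mem_normalizer_iff.1 (hAn (M.inv_mem hcM)) _).1 h1
    simpa [MulAut.smul_def, mul_assoc] using h2
  have hNWM : normalizer (W : Set G) ≤ M := by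
    have hsolv : Group.IsSolvable (MulAut.conj c⁻¹ • normalizer (W : Set G) : Subgroup G) := by
      rw [Coprime.conj_smul_eq_map]
      exact Group.isSolvable_of_surjective
        (f := (equivMapOfInjective _ _ (MulAut.conj c⁻¹).injective).toMonoidHom) (MulEquiv.surjective _)
    have hU : ¬ IsCyclic (MulAut.conj c⁻¹ • B : Subgroup G) := fun hcy => hBnc (by
      rw [Coprime.conj_smul_eq_map] at hcy
      haveI : IsCyclic (B.map ((MulAut.conj c⁻¹ : G ≃* G) : G →* G)) := hcy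
      exact isCyclic_of_injective
        ((MulAut.conj c⁻¹).subgroupMap B : B ≃* _).toMonoidHom (MulEquiv.injective _))
    have h1 := hc.le_top_of_noncyclic hH ht hsolv (U := MulAut.conj c⁻¹ • B)
      (by rw [map_inv, Subgroup.pointwise_smul_subset_iff, inv_inv]; exact hBc)
      (Subgroup.pointwise_smul_le_pointwise_smul_iff.2 (hB.1.trans inf_le_right)) hU
    intro n hn
    have h2 := h1 (smul_mem_pointwise_smul n (MulAut.conj c⁻¹) _ hn)
    have := M.mul_mem (M.mul_mem hcM h2) (M.inv_mem hcM)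
    simpa [MulAut.smul_def, mul_assoc] using this
  -- `P` is a Sylow subgroup of `G`
  obtain ⟨Q, hQ⟩ := hPp.exists_le_sylow
  have hPQ : P = Q := by
    by_contra hne'
    have hlt := inf_lt_of_normalizer (p := p) Q.2 (lt_of_le_of_ne hQ hne')
    have hle : (Q : Subgroup G) ⊓ normalizer (P : Set G) ≤ M :=
      fun g hg => hNWM (Fusion.mem_normalizer_zInter hg.2)
    have h3 : (S : Subgroup M) ≤ ((Q : Subgroup G) ⊓ normalizer (P : Set G)).subgroupOf M :=
      fun s hs => hlt.le ⟨s, hs, rfl⟩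
    have h4 := S.3 ((Q.2.to_le inf_le_left).comap_subtype (K := M)) h3
    refine hlt.ne (le_antisymm hlt.le fun g hg => ?_)
    have h5 : (⟨g, hle hg⟩ : M) ∈ Subgroup.comap M.subtype ((Q : Subgroup G) ⊓ normalizer (P : Set G)) := hg
    rw [h4] at h5
    exact ⟨_, h5, rfl⟩
  obtain ⟨hMN, -⟩ := hc.sylow_normal_of_zj Q hMs (hPQ ▸ hPM) (hPQ ▸ hNWM)
  obtain ⟨x, hx, hxp, b, hb, hxb⟩ := hc.exists_pElement hH hne
  obtain ⟨Q', hQ'⟩ := (hxp.comap_subtype (K := M)).exists_le_sylow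
  have hxQ : x ∈ (Q : Subgroup G) := by
    have hQn : ((Q : Subgroup G).subgroupOf M).Normal := normal_subgroupOf_of_le_normalizer hMN
    have hsub : Subsingleton (Sylow p M) :=
      (Sylow.unique_of_normal (Q.subtype (hPQ ▸ hPM)) hQn).instSubsingleton
    rw [Subsingleton.elim Q' (Q.subtype (hPQ ▸ hPM))] at hQ'
    exact hQ' (show (⟨x, ht.nH hx⟩ : M) ∈ (zpowers x).subgroupOf M from mem_zpowers x)
  refine hxb (commutatorElement_eq_one_iff_mul_comm.1 (eq_one_of_mem hH.1 Q.2 ?_ ?_))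
  · exact H.mul_mem ((mem_normalizer_iff.1 hx b).1 hb) (H.inv_mem hb)
  · rw [commutatorElement_def, mul_assoc, mul_assoc, ← mul_assoc b]
    exact (Q : Subgroup G).mul_mem hxQ
      ((mem_normalizer_iff.1 (hMN (hHM hb)) _).1 ((Q : Subgroup G).inv_mem hxQ))

/-- `C(b) ≤ N(H)` for `1 ≠ b ∈ H`. -/
theorem centralizer_le_normalizer' (hc : Cx p G) (hH : MaxPP p H) {b : G} (hb : b ∈ H) (hb1 : b ≠ 1) :
    centralizer ({b} : Set G) ≤ normalizer (H : Set G) := by
  have hne : H ≠ ⊥ := fun e => hb1 (by simpa [e] using hb)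
  obtain ⟨X, M, ht⟩ := hc.exists_top hH hne
  exact (hc.centralizer_le_top hH ht hb hb1).trans (hc.top_le_normalizer hH hne ht)

/-- A solvable subgroup meeting `H` in a noncyclic group lies in `N(H)`. -/
theorem le_normalizer_of_noncyclic (hc : Cx p G) (hH : MaxPP p H) {K U : Subgroup G}
    (hK : Group.IsSolvable K) (hUH : U ≤ H) (hUK : U ≤ K) (hU : ¬ IsCyclic U) :
    K ≤ normalizer (H : Set G) := by
  have hne : H ≠ ⊥ := fun e => hU (by rw [le_bot_iff.1 (hUH.trans e.le)]; infer_instance)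
  obtain ⟨X, M, ht⟩ := hc.exists_top hH hne
  exact (hc.le_top_of_noncyclic hH ht hK hUH hUK hU).trans (hc.top_le_normalizer hH hne ht)

end Cx

end Cfsg.Agent.AbelPPrime
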