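import Cfsg.Agent.AbelPPrime.Basic
import Cfsg.Agent.Fusion.TransferTools
import Cfsg.Agent.Coprime.Generation
import Cfsg.Agent.Coprime.Tools

/-!
A minimal simple group in which all `p'`-subgroups are abelian of exponent dividing `p - 1`:
the maximal `p'`-subgroups.
-/

set_option autoImplicit false

namespace Cfsg.Agent.AbelPPrime

open Subgroup
open scoped Pointwise

universe u

variable {p : ℕ} {G : Type u} [Group G] [Finite G] [hp : Fact p.Prime]

/-- The minimal counterexample. -/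
structure Cx (p : ℕ) (G : Type u) [Group G] : Prop where
  hpp : HP p G
  five : 5 ≤ p
  simple : IsSimpleGroup G
  nonab : ¬ ∀ a b : G, a * b = b * a
  solv : ∀ K : Subgroup G, K ≠ ⊤ → Group.IsSolvable K

/-- A maximal `p'`-subgroup. -/
def MaxPP (p : ℕ) {G : Type u} [Group G] (H : Subgroup G) : Prop :=
  (Nat.card H).Coprime p ∧ ∀ K : Subgroup G, (Nat.card K).Coprime p → H ≤ K → K = H

theorem exists_maxPP {U : Subgroup G} (hU : (Nat.card U).Coprime p) :
    ∃ H, MaxPP p H ∧ U ≤ H := by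
  obtain ⟨H, hH, hmax⟩ := WellFounded.has_min wellFounded_gt
    {K : Subgroup G | (Nat.card K).Coprime p ∧ U ≤ K} ⟨U, hU, le_rfl⟩
  refine ⟨H, ⟨hH.1, fun K hK hle => ?_⟩, hH.2⟩
  by_contra hne
  exact hmax K ⟨hK, hH.2.trans hle⟩ (lt_of_le_of_ne hle (Ne.symm hne))

omit [Finite G] hp in
theorem MaxPP.conj {H : Subgroup G} (hH : MaxPP p H) (g : G) : MaxPP p (MulAut.conj g • H) := by
  refine ⟨by rw [Coprime.card_conj_smul]; exact hH.1, fun K hK hle => ?_⟩
  have h := hH.2 ((MulAut.conj g)⁻¹ • K) ?_ ?_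
  · rw [← h, smul_inv_smul]
  · rw [← map_inv, Coprime.card_conj_smul]; exact hK
  · rwa [Subgroup.pointwise_smul_subset_iff] at hle

theorem MaxPP.hallIn {H K : Subgroup G} (hH : MaxPP p H) (hK : Group.IsSolvable K) (hHK : H ≤ K) :
    HallIn p H K := by
  obtain ⟨B, hB, hle⟩ := exists_hallIn hK hHK hH.1
  rwa [hH.2 B hB.2.1 hle] at hB

theorem HallIn.exists_conj {B K U : Subgroup G} (hB : HallIn p B K) (hK : Group.IsSolvable K)
    (hU : U ≤ K) (hUc : (Nat.card U).Coprime p) : ∃ c ∈ K, U ≤ MulAut.conj c • B := by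
  obtain ⟨k, hk⟩ := hB.2.2
  have hcard : Nat.card K = Nat.card B * p ^ k := by
    rw [← hk, ← relIndex_bot_left, ← relIndex_bot_left B,
      relIndex_mul_relIndex _ _ _ bot_le hB.1]
  obtain ⟨g, hg⟩ := Core.exists_le_conj_hall hcard (hB.2.1.pow_right k)
    (Nat.card_congr (subgroupOfEquivOfLe hB.1).toEquiv)
    (K := U.subgroupOf K) (by
      rw [Nat.card_congr (subgroupOfEquivOfLe hU).toEquiv]; exact hUc.pow_right k)
  refine ⟨g, g.2, ?_⟩
  have h := map_mono (f := K.subtype) hg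
  rwa [map_subgroupOf_eq_of_le hU, Coprime.map_conj_smul, map_subgroupOf_eq_of_le hB.1] at h

theorem MaxPP.exists_conj {H H' K : Subgroup G} (hH : MaxPP p H) (hH' : MaxPP p H')
    (hK : Group.IsSolvable K) (h1 : H ≤ K) (h2 : H' ≤ K) :
    ∃ c ∈ K, MulAut.conj c • H = H' := by
  obtain ⟨c, hc, hle⟩ := (hH.hallIn hK h1).exists_conj hK h2 hH'.1
  exact ⟨c, hc, hH'.2 _ (hH.conj c).1 hle⟩

omit [Finite G] in
theorem coprime_zpowers {g : G} (h : (orderOf g).Coprime p) :
    (Nat.card (zpowers g)).Coprime p := by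
  rwa [Nat.card_zpowers]

/-- The `p`-part and the `p'`-part. -/
theorem exists_decomp (g : G) : ∃ a b : G, g = a * b ∧ Commute a b ∧ a ∈ zpowers g ∧
    b ∈ zpowers g ∧ IsPGroup p (zpowers a) ∧ (orderOf b).Coprime p := by
  have hn : orderOf g ≠ 0 := (orderOf_pos g).ne'
  set k := (orderOf g).factorization p with hk
  set m := ordCompl[p] (orderOf g) with hm
  have hmul : p ^ k * m = orderOf g := Nat.ordProj_mul_ordCompl_eq_self _ p
  have hmp : p.Coprime m := Nat.coprime_ordCompl hp.out hn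
  have hc : IsCoprime ((p : ℤ) ^ k) (m : ℤ) := by
    have := Nat.isCoprime_iff_coprime.2 (hmp.pow_left k)
    simpa using this
  obtain ⟨u, v, huv⟩ := hc
  have hone : g ^ ((p : ℤ) ^ k * (m : ℤ)) = 1 := by
    rw [show (p : ℤ) ^ k * (m : ℤ) = ((p ^ k * m : ℕ) : ℤ) by push_cast; ring, zpow_natCast, hmul,
      pow_orderOf_eq_one]
  refine ⟨g ^ (v * (m : ℤ)), g ^ (u * (p : ℤ) ^ k), ?_, Commute.zpow_zpow_self g _ _,
    zpow_mem_zpowers g _, zpow_mem_zpowers g _, ?_, ?_⟩
  · rw [← zpow_add, add_comm, huv, zpow_one]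
  · have h : (g ^ (v * (m : ℤ))) ^ (p ^ k) = 1 := by
      rw [← zpow_natCast, ← zpow_mul, show v * (m : ℤ) * ((p ^ k : ℕ) : ℤ) = (p : ℤ) ^ k * (m : ℤ) * v by
        push_cast; ring, zpow_mul, hone, one_zpow]
    obtain ⟨j, -, hj⟩ := (Nat.dvd_prime_pow hp.out).1 (orderOf_dvd_of_pow_eq_one h)
    exact IsPGroup.of_card (n := j) (by rw [Nat.card_zpowers, hj])
  · have h : (g ^ (u * (p : ℤ) ^ k)) ^ m = 1 := by
      rw [← zpow_natCast, ← zpow_mul, show u * (p : ℤ) ^ k * (m : ℤ) = (p : ℤ) ^ k * (m : ℤ) * u by ring,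
        zpow_mul, hone, one_zpow]
    exact hmp.symm.coprime_dvd_left (orderOf_dvd_of_pow_eq_one h)

theorem orderOf_dvd_pred (h : HP p G) {g : G} (hg : (orderOf g).Coprime p) : orderOf g ∣ p - 1 :=
  orderOf_dvd_of_pow_eq_one ((h _ (coprime_zpowers hg)).2 g (mem_zpowers g))

theorem coprime_orderOf {H : Subgroup G} (hH : (Nat.card H).Coprime p) {b : G} (hb : b ∈ H) :
    (orderOf b).Coprime p :=
  hH.coprime_dvd_left (by rw [← Nat.card_zpowers]; exact card_dvd_of_le (zpowers_le.2 hb))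

/-- A `p`-element normalising a cyclic `p'`-subgroup centralises it. -/
theorem centralizes_of_cyclic (h : HP p G) {B : Subgroup G} (hB : (Nat.card B).Coprime p)
    (hcyc : IsCyclic B) {x : G} (hx : x ∈ normalizer (B : Set G)) (hxp : IsPGroup p (zpowers x))
    {b : G} (hb : b ∈ B) : x * b = b * x := by
  obtain ⟨g, hg⟩ := IsCyclic.exists_generator (α := B)
  have hlt : Nat.card B < p := by
    rw [← orderOf_eq_card_of_forall_mem_zpowers hg, ← Subgroup.orderOf_coe]
    have := Nat.le_of_dvd (Nat.sub_pos_of_lt hp.out.one_lt) (orderOf_dvd_pred h (coprime_orderOf hB g.2))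
    have := hp.out.one_lt
    omega
  letI : MulAction (zpowers x) G := MulAction.compHom G
    ((MulAut.conj : G →* MulAut G).comp (zpowers x).subtype)
  have hsub : MulAction.orbit (zpowers x) b ⊆ (B : Set G) := by
    rintro _ ⟨a, rfl⟩
    exact (mem_normalizer_iff.1 ((zpowers_le.2 hx) a.2) b).1 hb
  obtain ⟨n, hn⟩ := hxp.card_orbit b
  have hle : Nat.card (MulAction.orbit (zpowers x) b) ≤ Nat.card B :=
    Nat.card_mono (Set.toFinite _) hsub
  rcases Nat.eq_zero_or_pos n with rfl | hn0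
  · rw [pow_zero, Nat.card_eq_one_iff_unique] at hn
    have := hn.1
    have he : (⟨x * b * x⁻¹, ⟨⟨x, mem_zpowers x⟩, rfl⟩⟩ : MulAction.orbit (zpowers x) b) =
        ⟨b, MulAction.mem_orbit_self b⟩ := Subsingleton.elim _ _
    have he' : x * b * x⁻¹ = b := congrArg Subtype.val he
    exact mul_inv_eq_iff_eq_mul.1 he'
  · exfalso
    have : p ≤ p ^ n := Nat.le_self_pow hn0.ne' p
    omega

namespace Cx

theorem center_eq_bot (hc : Cx p G) : center G = ⊥ := by
  have := hc.simple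
  refine (IsSimpleGroup.eq_bot_or_eq_top_of_normal _ inferInstance).resolve_right fun h => hc.nonab ?_
  intro a b
  exact (mem_center_iff.1 (h ▸ mem_top b : b ∈ center G) a)

theorem centralizer_ne_top (hc : Cx p G) {b : G} (hb : b ≠ 1) :
    centralizer ({b} : Set G) ≠ ⊤ := by
  intro h
  refine hb (Subgroup.mem_bot.1 (hc.center_eq_bot ▸ mem_center_iff.2 fun g => ?_ : b ∈ (⊥ : Subgroup G)))
  have : g ∈ centralizer ({b} : Set G) := h ▸ mem_top g
  exact ((mem_centralizer_iff.1 this) b rfl).symm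

theorem solv_centralizer (hc : Cx p G) {b : G} (hb : b ≠ 1) :
    Group.IsSolvable (centralizer ({b} : Set G)) :=
  hc.solv _ (hc.centralizer_ne_top hb)

theorem normalizer_ne_top (hc : Cx p G) {H : Subgroup G} (h1 : H ≠ ⊥) (h2 : H ≠ ⊤) :
    normalizer (H : Set G) ≠ ⊤ := by
  intro h
  have := hc.simple
  rcases IsSimpleGroup.eq_bot_or_eq_top_of_normal H (normalizer_eq_top_iff.1 h) with h' | h'
  exacts [h1 h', h2 h']

theorem not_isPGroup_top (hc : Cx p G) : ¬ IsPGroup p G := by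
  intro h
  have := hc.simple
  have : Nontrivial G := hc.simple.toNontrivial
  have := h.center_nontrivial
  exact (nontrivial_iff_ne_bot _).1 this hc.center_eq_bot

theorem ne_top_of_coprime (hc : Cx p G) {H : Subgroup G} (hH : (Nat.card H).Coprime p) : H ≠ ⊤ := by
  rintro rfl
  exact hc.nonab fun a b => hc.hpp.comm hH (mem_top a) (mem_top b)

theorem dvd_card (hc : Cx p G) : p ∣ Nat.card G := by
  by_contra h
  exact hc.ne_top_of_coprime (H := ⊤) (by rw [Subgroup.card_top, coprime_iff]; exact h) rfl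

variable {H : Subgroup G}

theorem le_centralizer (hc : Cx p G) (hH : MaxPP p H) {b : G} (hb : b ∈ H) :
    H ≤ centralizer ({b} : Set G) := fun a ha => by
  rw [mem_centralizer_singleton_iff]
  exact hc.hpp.comm hH.1 ha hb

theorem exists_conj_of_mem (hc : Cx p G) {H' : Subgroup G} (hH : MaxPP p H) (hH' : MaxPP p H')
    {b : G} (hb : b ≠ 1) (h1 : b ∈ H) (h2 : b ∈ H') :
    ∃ c ∈ centralizer ({b} : Set G), MulAut.conj c • H = H' :=
  hH.exists_conj hH' (hc.solv_centralizer hb) (hc.le_centralizer hH h1) (hc.le_centralizer hH' h2)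

/-- Fusion in `H` is controlled by its normalizer. -/
theorem fusion (hc : Cx p G) (hH : MaxPP p H) {b g : G} (h1 : b ∈ H) (h2 : g * b * g⁻¹ ∈ H) :
    ∃ n ∈ normalizer (H : Set G), n * b * n⁻¹ = g * b * g⁻¹ := by
  by_cases hb : b = 1
  · exact ⟨1, one_mem _, by simp [hb]⟩
  have h2' : b ∈ MulAut.conj g⁻¹ • H := by
    rw [mem_pointwise_smul_iff_inv_smul_mem, ← map_inv, inv_inv]
    exact h2
  obtain ⟨c, hcb, hceq⟩ := hc.exists_conj_of_mem hH (hH.conj g⁻¹) hb h1 h2'
  refine ⟨g * c, Coprime.mem_normalizer_of_conj_smul_eq ?_, ?_⟩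
  · rw [map_mul, mul_smul, hceq, map_inv, smul_inv_smul]
  · have := mem_centralizer_singleton_iff.1 hcb
    calc g * c * b * (g * c)⁻¹ = g * (c * b * c⁻¹) * g⁻¹ := by group
      _ = g * b * g⁻¹ := by rw [this, mul_inv_cancel_right]

/-- A maximal `p'`-subgroup is a Hall subgroup of `G`. -/
theorem coprime_index (hc : Cx p G) (hH : MaxPP p H) : (Nat.card H).Coprime H.index := by
  refine Nat.coprime_of_dvd fun q hq hd hi => ?_
  have := Fact.mk hq
  have hqp : q ≠ p := fun h => coprime_iff.1 hH.1 (h ▸ hd)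
  obtain ⟨b, hb⟩ := exists_prime_orderOf_dvd_card' q hd
  have hb' : orderOf (b : G) = q := (orderOf_coe b).trans hb
  have hbp : IsPGroup q (zpowers (b : G)) :=
    IsPGroup.of_card (n := 1) (by rw [Nat.card_zpowers, hb', pow_one])
  obtain ⟨Q, hQ⟩ := hbp.exists_le_sylow
  have hb1 : (b : G) ≠ 1 := fun h => hq.one_lt.ne (by rw [← hb', h, orderOf_one])
  have hQc : (Nat.card (Q : Subgroup G)).Coprime p := by
    obtain ⟨k, hk⟩ := IsPGroup.iff_card.1 Q.2
    rw [hk]; exact ((Nat.coprime_primes hq hp.out).2 hqp).pow_left k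
  have hQb : (Q : Subgroup G) ≤ centralizer ({(b : G)} : Set G) := fun a ha => by
    rw [mem_centralizer_singleton_iff]
    exact hc.hpp.comm hQc ha (hQ (mem_zpowers _))
  have hdvd := (hH.hallIn (hc.solv_centralizer hb1) (hc.le_centralizer hH b.2)).dvd hQb hQc
  have hGq : Nat.card (Q : Subgroup G) * q ∣ Nat.card G := by
    rw [← H.card_mul_index]; exact Nat.mul_dvd_mul hdvd hi
  rw [← Q.card_mul_index] at hGq
  exact Q.not_dvd_index (Nat.dvd_of_mul_dvd_mul_left Nat.card_pos hGq)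

theorem mem_of_normalizes (hc : Cx p G) (hH : MaxPP p H) {y : G}
    (hy : y ∈ normalizer (H : Set G)) (hyp : (orderOf y).Coprime p) : y ∈ H := by
  have := hH.2 (zpowers y ⊔ H) (coprime_sup (coprime_zpowers hyp) hH.1 (zpowers_le.2 hy)) le_sup_right
  rw [← this]; exact mem_sup_left (mem_zpowers y)

/-- Transfer: `H` is generated modulo nothing by the displacements of its normalizer. -/
theorem le_of_displacements (hc : Cx p G) (hH : MaxPP p H) {D : Subgroup G}
    (hD : ∀ n ∈ normalizer (H : Set G), ∀ b ∈ H, n * b * n⁻¹ * b⁻¹ ∈ D) : H ≤ D := by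
  letI : CommGroup H := { (inferInstance : Group H) with
    mul_comm := fun a b => Subtype.ext (hc.hpp.comm hH.1 a.2 b.2) }
  set φ : H →* H ⧸ D.subgroupOf H := QuotientGroup.mk' _
  intro b hb
  have htriv : MonoidHom.transfer φ b = 1 := by
    have := hc.simple
    rcases IsSimpleGroup.eq_bot_or_eq_top_of_normal (MonoidHom.transfer φ).ker inferInstance with h | h
    · exfalso
      refine hc.nonab fun x y => (MonoidHom.ker_eq_bot_iff _).1 h ?_
      rw [map_mul, map_mul, mul_comm]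
    · exact MonoidHom.mem_ker.1 (h ▸ mem_top b)
  have hkey := Fusion.transfer_apply_eq_pow φ (⟨b, hb⟩ : H) fun k a hk => by
    obtain ⟨n, hn, he⟩ := hc.fusion hH (pow_mem hb k) hk
    refine (QuotientGroup.eq (s := D.subgroupOf H)).2 ?_
    rw [mem_subgroupOf]
    show (a * b ^ k * a⁻¹)⁻¹ * b ^ k ∈ D
    have h1 := D.inv_mem (hD n hn (b ^ k) (pow_mem hb k))
    rw [he] at h1
    have h2 : (a * b ^ k * a⁻¹ * (b ^ k)⁻¹)⁻¹ = (a * b ^ k * a⁻¹)⁻¹ * b ^ k := by
      rw [mul_inv_rev, inv_inv]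
      exact hc.hpp.comm hH.1 (pow_mem hb k) (inv_mem hk)
    rwa [← h2]
  rw [htriv] at hkey
  have hord : orderOf (φ ⟨b, hb⟩) ∣ 1 := by
    rw [← (hc.coprime_index hH : _ = 1)]
    exact Nat.dvd_gcd ((orderOf_map_dvd φ _).trans (orderOf_dvd_natCard _))
      (orderOf_dvd_of_pow_eq_one hkey.symm)
  have : φ ⟨b, hb⟩ = 1 := orderOf_eq_one_iff.1 (Nat.dvd_one.1 hord)
  exact mem_subgroupOf.1 ((QuotientGroup.eq_one_iff _).1 this)

theorem eq_one_of_fixed (hc : Cx p G) (hH : MaxPP p H) {b : G} (hb : b ∈ H)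
    (hfix : ∀ n ∈ normalizer (H : Set G), n * b = b * n) : b = 1 := by
  letI : CommGroup H := { (inferInstance : Group H) with
    mul_comm := fun a c => Subtype.ext (hc.hpp.comm hH.1 a.2 c.2) }
  have htriv : MonoidHom.transfer (MonoidHom.id H) b = 1 := by
    have := hc.simple
    rcases IsSimpleGroup.eq_bot_or_eq_top_of_normal (MonoidHom.transfer (MonoidHom.id H)).ker inferInstance with h | h
    · exfalso
      refine hc.nonab fun x y => (MonoidHom.ker_eq_bot_iff _).1 h ?_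
      rw [map_mul, map_mul, mul_comm]
    · exact MonoidHom.mem_ker.1 (h ▸ mem_top b)
  have hkey := Fusion.transfer_apply_eq_pow (MonoidHom.id H) (⟨b, hb⟩ : H) fun k a hk => by
    obtain ⟨n, hn, he⟩ := hc.fusion hH (pow_mem hb k) hk
    apply Subtype.ext
    show a * b ^ k * a⁻¹ = b ^ k
    rw [← he, (Commute.pow_right (hfix n hn) k).eq, mul_inv_cancel_right]
  rw [htriv] at hkey
  have hord : orderOf (⟨b, hb⟩ : H) ∣ 1 := by
    rw [← (hc.coprime_index hH : _ = 1)]
    exact Nat.dvd_gcd (orderOf_dvd_natCard _) (orderOf_dvd_of_pow_eq_one hkey.symm)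
  exact congrArg Subtype.val (orderOf_eq_one_iff.1 (Nat.dvd_one.1 hord))

theorem exists_moving (hc : Cx p G) (hH : MaxPP p H) {b : G} (hb : b ∈ H) (hb1 : b ≠ 1) :
    ∃ x ∈ normalizer (H : Set G), IsPGroup p (zpowers x) ∧ x * b ≠ b * x := by
  by_contra h
  push Not at h
  refine hb1 (hc.eq_one_of_fixed hH hb fun n hn => ?_)
  obtain ⟨a, c, rfl, -, ha, hc', hap, hcp⟩ := exists_decomp (p := p) n
  have hcH := hc.mem_of_normalizes hH (zpowers_le.2 hn hc') hcp
  rw [mul_assoc, hc.hpp.comm hH.1 hcH hb, ← mul_assoc, h a (zpowers_le.2 hn ha) hap, mul_assoc]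

theorem exists_elementary (hc : Cx p G) (hH : MaxPP p H) (hne : H ≠ ⊥) :
    ∃ (q : ℕ) (E : Subgroup G), q.Prime ∧ E ≤ H ∧ (∀ e ∈ E, e ^ q = 1) ∧ Nat.card E = q ^ 3 := by
  obtain ⟨q, hq, hd⟩ := Nat.exists_prime_and_dvd (n := Nat.card H) (fun h => hne (card_eq_one.1 h))
  have := Fact.mk hq
  have hqd : q ∣ p - 1 := by
    obtain ⟨b, hb⟩ := exists_prime_orderOf_dvd_card' q hd
    rw [← hb, ← Subgroup.orderOf_coe b]
    exact orderOf_dvd_pred hc.hpp (coprime_orderOf hH.1 b.2)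
  let E : Subgroup G :=
    { carrier := {b | b ∈ H ∧ b ^ q = 1}
      one_mem' := ⟨one_mem _, one_pow _⟩
      mul_mem' := fun {a b} ha hb => ⟨mul_mem ha.1 hb.1, by
        rw [Commute.mul_pow (hc.hpp.comm hH.1 ha.1 hb.1), ha.2, hb.2, one_mul]⟩
      inv_mem' := fun {a} ha => ⟨inv_mem ha.1, by rw [inv_pow, ha.2, inv_one]⟩ }
  have hEq : IsPGroup q E := fun e => ⟨1, Subtype.ext (by simpa using e.2.2)⟩
  obtain ⟨r, hr⟩ := IsPGroup.iff_card.1 hEq
  suffices 3 ≤ r by
    obtain ⟨E₀, hE₀⟩ := Sylow.exists_subgroup_card_pow_prime q (G := E) (n := 3)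
      (hr ▸ pow_dvd_pow q this)
    refine ⟨q, E₀.map E.subtype, hq, fun e he => (map_subtype_le E₀ he).1,
      fun e he => (map_subtype_le E₀ he).2, ?_⟩
    rw [← hE₀, Nat.card_congr (equivMapOfInjective _ _ E.subtype_injective).symm.toEquiv]
  obtain ⟨b, hb⟩ := exists_prime_orderOf_dvd_card' q hd
  have hb' : (b : G) ∈ E := ⟨b.2, by rw [← hb, ← Subgroup.orderOf_coe]; exact pow_orderOf_eq_one _⟩
  obtain ⟨x, hx, hxp, hxb⟩ := hc.exists_moving hH b.2 (fun h => hq.one_lt.ne (by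
    rw [← hb, ← Subgroup.orderOf_coe, h, orderOf_one]))
  have hmem : ∀ a ∈ zpowers x, ∀ e ∈ E, a * e * a⁻¹ ∈ E := fun a ha e he =>
    ⟨(mem_normalizer_iff.1 (zpowers_le.2 hx ha) e).1 he.1, by rw [conj_pow, he.2, mul_one, mul_inv_cancel]⟩
  letI : MulAction (zpowers x) E :=
    { smul := fun a e => ⟨(a : G) * e * (a : G)⁻¹, hmem a a.2 e e.2⟩
      one_smul := fun e => Subtype.ext (by show (1 : G) * e * (1 : G)⁻¹ = e; simp)
      mul_smul := fun a c e => Subtype.ext (by
        show (a : G) * c * e * ((a : G) * c)⁻¹ = a * (c * e * (c : G)⁻¹) * (a : G)⁻¹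
        group) }
  let F : Subgroup G := E ⊓ centralizer ({x} : Set G)
  have hFE : F ≤ E := inf_le_left
  have hfix : Nat.card (MulAction.fixedPoints (zpowers x) E) = Nat.card F := by
    refine Nat.card_congr ⟨fun e => ⟨e.1, e.1.2, ?_⟩, fun e => ⟨⟨e, hFE e.2⟩, ?_⟩,
      fun e => rfl, fun e => rfl⟩
    · show ((e : E) : G) ∈ centralizer ({x} : Set G)
      rw [mem_centralizer_singleton_iff]
      have := congrArg Subtype.val (e.2 ⟨x, mem_zpowers x⟩)
      exact (mul_inv_eq_iff_eq_mul.1 this).symm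
    · intro a
      apply Subtype.ext
      show (a : G) * e * (a : G)⁻¹ = e
      obtain ⟨i, hi⟩ := a.2
      have hcx : Commute x (e : G) := (mem_centralizer_singleton_iff.1 e.2.2).symm
      rw [← hi]
      show x ^ i * (e : G) * (x ^ i)⁻¹ = e
      rw [(hcx.zpow_left i).eq, mul_inv_cancel_right]
  have hmod := hxp.card_modEq_card_fixedPoints E
  rw [hfix, hr] at hmod
  obtain ⟨s, hsr, hs⟩ := (Nat.dvd_prime_pow hq).1 (hr ▸ card_dvd_of_le hFE)
  rw [hs] at hmod
  have hlt : s < r := by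
    refine lt_of_le_of_ne hsr fun h => hxb ?_
    have : F = E := eq_of_le_of_card_ge hFE (by rw [hs, hr, h])
    have hb'' : (b : G) ∈ F := this ▸ hb'
    exact (mem_centralizer_singleton_iff.1 hb''.2).symm
  by_contra hr3
  have hdiv : p ∣ q ^ (r - s) - 1 := by
    have h1 : p ∣ q ^ r - q ^ s := (Nat.modEq_iff_dvd' (Nat.pow_le_pow_right hq.pos hsr)).1 hmod.symm
    have h2 : q ^ r - q ^ s = q ^ s * (q ^ (r - s) - 1) := by
      rw [Nat.mul_sub, mul_one, ← pow_add, Nat.add_sub_cancel' hsr]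
    rw [h2] at h1
    refine ((hp.out.coprime_iff_not_dvd.2 fun h => ?_).pow_right s).dvd_of_dvd_mul_left h1
    have hpq := (Nat.prime_dvd_prime_iff_eq hp.out hq).1 h
    have := Nat.le_of_dvd (Nat.sub_pos_of_lt hp.out.one_lt) hqd
    have := hq.two_le
    omega
  have hqle := Nat.le_of_dvd (Nat.sub_pos_of_lt hp.out.one_lt) hqd
  have h2q := hq.two_le
  have h5 := hc.five
  rcases (show r - s = 1 ∨ r - s = 2 by omega) with h | h <;> rw [h] at hdiv
  · rw [pow_one] at hdiv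
    have := Nat.le_of_dvd (by omega) hdiv
    omega
  · have h3 : q ^ 2 - 1 = (q + 1) * (q - 1) := by
      simpa [one_pow] using Nat.sq_sub_sq q 1
    rw [h3] at hdiv
    rcases hp.out.dvd_mul.1 hdiv with h4 | h4
    · have := Nat.le_of_dvd (by omega) h4
      have hqp : q + 1 = p := by omega
      rcases hq.eq_two_or_odd' with h6 | ⟨i, hi⟩
      · omega
      · rcases hp.out.eq_two_or_odd' with h7 | ⟨j, hj⟩ <;> omega
    · have := Nat.le_of_dvd (by omega) h4
      omega

end Cx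

end Cfsg.Agent.AbelPPrime
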